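import Cfsg.Agent.LargeExt10.Co.Sylow

/-!
# The classes of the standard elements under `C(z, s)`
-/

set_option autoImplicit false

namespace Cfsg.Agent.LargeExt10.Co

open QuadraticMap Cfsg.Agent.Reflections Cfsg.Agent.LargeExtraspecial
open Cfsg.Agent.Forms59.Inv (nmap add_self_vec nmap_apply polar_nmap act_eq_add)

theorem mem_reps {a : ℕ} (ha : a ∈ reps) : a < 256 ∧ B8 (vc a) v0 = 0 ∧ B8 (vc a) yy = 0 := by
  simp only [reps, List.mem_filter, mem_codes, Bool.and_eq_true] at ha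
  exact ⟨ha.1, B_of_orth ha.1 (by norm_num) ha.2.1, B_of_orth ha.1 (by norm_num) ha.2.2⟩

theorem rep_inj {a b : ℕ} (ha : a ∈ reps) (hb : b ∈ reps) (h : Eqv (vc a) (vc b)) : a = b := by
  obtain ⟨ha', -, hay⟩ := mem_reps ha
  obtain ⟨hb', -, hby⟩ := mem_reps hb
  rcases h with e | e
  · exact vc_inj ha' hb' e
  · exfalso
    rw [e, B8, polar_add_left, show polar (⇑Q8) (vc b) yy = 0 from hby, zero_add, polar_comm,
      show polar (⇑Q8) yy v0 = 1 from B_yy] at hay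
    exact one_ne_zero hay

theorem exists_rep {v : V8} (hv : B8 v v0 = 0) : ∃ a ∈ reps, Eqv v (vc a) := by
  obtain ⟨k, hk, ek⟩ := vc_surj (v + B8 v yy • v0)
  have he : Eqv v (vc k) := by
    rw [ek]
    rcases bit (B8 v yy) with e | e <;> rw [e]
    · exact Or.inl (by rw [zero_smul, add_zero])
    · exact Or.inr (by rw [one_smul, add_assoc, add_self_vec, add_zero])
  refine ⟨k, List.mem_filter.2 ⟨mem_codes.2 hk, ?_⟩, he⟩
  have h0 : B8 (vc k) v0 = 0 := he.symm.perp hv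
  have hy : B8 (vc k) yy = 0 := by
    rw [ek, B8, polar_add_left, polar_smul_left, polar_comm _ v0, show polar (⇑Q8) yy v0 = 1 from B_yy,
      smul_eq_mul, mul_one]
    exact zadd2 _
  rw [orth_true hk (by norm_num) h0, orth_true hk (by norm_num) hy]
  rfl

theorem reps_nodup : reps.Nodup := List.Nodup.filter _ List.nodup_range

theorem pairsC_nodup : pairsC.Nodup := List.Nodup.filter _ (reps_nodup.product reps_nodup)

theorem pairsS_nodup : pairsS.Nodup := List.Nodup.filter _ (reps_nodup.product reps_nodup)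

theorem mem_pairs {p : ℕ × ℕ} :
    p ∈ (reps.flatMap fun a => reps.map fun b => (a, b)) ↔ p.1 ∈ reps ∧ p.2 ∈ reps := by
  simp only [List.mem_flatMap, List.mem_map]
  exact ⟨fun ⟨a, ha, b, hb, e⟩ => e ▸ ⟨ha, hb⟩, fun h => ⟨_, h.1, _, h.2, rfl⟩⟩

theorem qm_eq {a : ℕ} (ha : a < 256) {v : V8} (h : Eqv (vc a) v) (hv : B8 v v0 = 0) :
    (if qm a then (1 : ZMod 2) else 0) = Q8 v := by
  rw [← q_vc ha]; exact h.form_eq hv

theorem pairsC_sound {p : ℕ × ℕ} (hp : p ∈ pairsC) :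
    p.1 ∈ reps ∧ p.2 ∈ reps ∧ ∃ γ ∈ Cfsg.Omega (ZMod 2) ⇑Q8, act γ v0 = v0 ∧
      Eqv (act γ (vc p.1)) cType.va ∧ Eqv (act γ (vc p.2)) cType.vb := by
  obtain ⟨h1, h2⟩ := List.mem_filter.1 hp
  obtain ⟨ha, hb⟩ := mem_pairs.1 h1
  obtain ⟨ha', ha0, -⟩ := mem_reps ha
  obtain ⟨hb', hb0, -⟩ := mem_reps hb
  simp only [Bool.and_eq_true, Bool.not_eq_true'] at h2
  exact ⟨ha, hb, exists_to_pairC (Q_of ha' h2.1.1) (Q_of hb' h2.1.2) ha0 hb0 (B_one ha' hb' h2.2)⟩

theorem pairsS_sound {p : ℕ × ℕ} (hp : p ∈ pairsS) :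
    p.1 ∈ reps ∧ p.2 ∈ reps ∧ ∃ γ ∈ Cfsg.Omega (ZMod 2) ⇑Q8, act γ v0 = v0 ∧
      Eqv (act γ (vc p.1)) sType.va ∧ Eqv (act γ (vc p.2)) sType.vb := by
  obtain ⟨h1, h2⟩ := List.mem_filter.1 hp
  obtain ⟨ha, hb⟩ := mem_pairs.1 h1
  obtain ⟨ha', ha0, -⟩ := mem_reps ha
  obtain ⟨hb', hb0, -⟩ := mem_reps hb
  simp only [Bool.and_eq_true, Bool.not_eq_true', beq_eq_false_iff_ne] at h2
  obtain ⟨⟨⟨⟨⟨qa, qb⟩, hab⟩, a0⟩, b0⟩, hne⟩ := h2
  have h0 : 0 ∈ reps := List.mem_filter.2 ⟨mem_codes.2 (by norm_num), by decide +kernel⟩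
  exact ⟨ha, hb, exists_to_pairS (Q_of ha' qa) (Q_of hb' qb) ha0 hb0 (B_of_orth ha' hb' hab)
    (fun e => a0 (rep_inj ha h0 (by rwa [vc_zero])))
    (fun e => b0 (rep_inj hb h0 (by rwa [vc_zero])))
    (fun e => hne (rep_inj ha hb e.symm))⟩

/-- What a code pair inherits from an image of the type. -/
theorem inherit (P : Pty) {γ : O8} (hγ : act γ v0 = v0) {a b : ℕ} (ha : a ∈ reps) (hb : b ∈ reps)
    (ea : Eqv (act γ P.va) (vc a)) (eb : Eqv (act γ P.vb) (vc b)) :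
    qm a = qm P.a ∧ qm b = qm P.b ∧ orth a b = orth P.a P.b := by
  obtain ⟨ha', ha0, -⟩ := mem_reps ha
  obtain ⟨hb', hb0, -⟩ := mem_reps hb
  have h1 : B8 (act γ P.va) v0 = 0 := ea.perp ha0
  have h2 : B8 (act γ P.vb) v0 = 0 := eb.perp hb0
  have e1 := qm_eq ha' ea.symm h1
  have e2 := qm_eq hb' eb.symm h2
  rw [act_Q, q_vc P.a_lt] at e1
  rw [act_Q, q_vc P.b_lt] at e2
  have e3 : B8 (vc a) (vc b) = B8 P.va P.vb := by
    rw [show B8 P.va P.vb = B8 (act γ P.va) (act γ P.vb) from (act_polar γ _ _).symm, ea.polar_eq h2]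
    rw [B8, B8, polar_comm, polar_comm _ (vc a)]
    exact (eb.symm.polar_eq ha0)
  rw [B_vc ha' hb', B_vc P.a_lt P.b_lt] at e3
  refine ⟨?_, ?_, ?_⟩
  · cases h : qm a <;> cases h' : qm P.a <;> simp [h, h'] at e1 ⊢
  · cases h : qm b <;> cases h' : qm P.b <;> simp [h, h'] at e2 ⊢
  · cases h : orth a b <;> cases h' : orth P.a P.b <;> simp [h, h'] at e3 ⊢

theorem pairsC_complete {γ : O8} (hγ : act γ v0 = v0) {a b : ℕ} (ha : a ∈ reps) (hb : b ∈ reps)
    (ea : Eqv (act γ cType.va) (vc a)) (eb : Eqv (act γ cType.vb) (vc b)) : (a, b) ∈ pairsC := by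
  obtain ⟨h1, h2, h3⟩ := inherit cType hγ ha hb ea eb
  refine List.mem_filter.2 ⟨mem_pairs.2 ⟨ha, hb⟩, ?_⟩
  simp only
  rw [h1, h2, h3]
  decide +kernel

theorem pairsS_complete {γ : O8} (hγ : act γ v0 = v0) {a b : ℕ} (ha : a ∈ reps) (hb : b ∈ reps)
    (ea : Eqv (act γ sType.va) (vc a)) (eb : Eqv (act γ sType.vb) (vc b)) : (a, b) ∈ pairsS := by
  obtain ⟨h1, h2, h3⟩ := inherit sType hγ ha hb ea eb
  have hback : ∀ u v, Eqv (act γ u) (act γ v) → Eqv u v := fun u v h => by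
    have := h.map (γ := γ⁻¹) (by conv_lhs => rw [← hγ, act_inv_act])
    rwa [act_inv_act, act_inv_act] at this
  have key : ∀ i j, i < 256 → j < 256 → same i j = false → ∀ {k l : ℕ}, Eqv (act γ (vc i)) (vc k) →
      Eqv (act γ (vc j)) (vc l) → k ≠ l := fun i j hi hj hne k l e e' hkl => by
    have := same_of_eqv hi hj (hback _ _ (e.trans (hkl ▸ e'.symm)))
    rw [hne] at this
    exact Bool.false_ne_true this
  have hz : Eqv (act γ (vc 0)) (vc 0) := by rw [vc_zero, act_zero]; exact Or.inl rfl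
  have a0 : a ≠ 0 := key 2 0 (by norm_num) (by norm_num) (by decide +kernel) ea hz
  have b0 : b ≠ 0 := key 4 0 (by norm_num) (by norm_num) (by decide +kernel) eb hz
  have hne : a ≠ b := key 2 4 (by norm_num) (by norm_num) (by decide +kernel) ea eb
  refine List.mem_filter.2 ⟨mem_pairs.2 ⟨ha, hb⟩, ?_⟩
  simp only [h1, h2, h3, Bool.and_eq_true, Bool.not_eq_true', beq_eq_false_iff_ne]
  exact ⟨⟨⟨⟨⟨by decide +kernel, by decide +kernel⟩, by decide +kernel⟩, a0⟩, b0⟩, hne⟩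

variable {G : Type*} [Group G] [Finite G] {z : G} {Q : Subgroup G} {D : Co z Q}

namespace Frame

variable {F : Frame D}

theorem eq_el_mul' {r r' x x' : G} (hr : r ∈ fixIn F.R z) (hr' : r' ∈ fixIn F.R z) (hx : x ∈ Q)
    (hx' : x' ∈ Q) (ha : Eqv (F.av r') (F.av r)) (hb : Eqv (D.c x') (D.c x)) :
    ∃ i j, r' * x' = el z F.s i j * (r * x) := by
  have hS := sig_of_mem hr
  have hS' := sig_of_mem hr'
  have hρ := hS'.rho_eq hS ha
  have hc : Commute (r' * r⁻¹) z := hS'.cz.mul_left hS.cz.inv_left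
  have hQ : r' * r⁻¹ ∈ Q := (D.ρ_ker hc).1 (by
    rw [D.ρ_mul hS'.cz hS.cz.inv_left, D.rho_inv hS.cz, hρ, mul_inv_cancel])
  obtain ⟨i, j, hij⟩ := F.eq_el_of_small hQ
    (F.inter_small hQ (mul_mem (mem_fixIn.1 hr').1 (inv_mem (mem_fixIn.1 hr).1)))
  have hxx : Eqv (D.c (x' * x⁻¹)) 0 := by
    rw [D.coords.mul _ hx' _ (inv_mem hx), D.coords.c_inv hx]
    rcases hb with e | e <;> rw [e]
    · exact Or.inl (add_self_vec _)
    · right; rw [add_comm (D.c x), add_assoc, add_self_vec, add_zero, zero_add]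
  obtain ⟨k, l, hkl⟩ := F.eq_el_of_small (mul_mem hx' (inv_mem hx)) hxx
  refine ⟨i + k, j + l, ?_⟩
  calc r' * x' = (r' * r⁻¹) * (r * (x' * x⁻¹) * r⁻¹) * (r * x) := by group
    _ = _ := by rw [hij, hkl, (F.el_commute hS.cz hS.cs k l).eq, mul_inv_cancel_right, F.el_mul]

/-- The orbit of a standard element under `C(z, s)`. -/
theorem card_cen2_s {P : Pty} (T : Std F P) (L : List (ℕ × ℕ)) (hL : L.Nodup)
    (sound : ∀ p ∈ L, p.1 ∈ reps ∧ p.2 ∈ reps ∧ ∃ γ ∈ Cfsg.Omega (ZMod 2) ⇑Q8, act γ v0 = v0 ∧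
      Eqv (act γ (vc p.1)) P.va ∧ Eqv (act γ (vc p.2)) P.vb)
    (complete : ∀ γ : O8, act γ v0 = v0 → ∀ a b, a ∈ reps → b ∈ reps → Eqv (act γ P.va) (vc a) →
      Eqv (act γ P.vb) (vc b) → (a, b) ∈ L) :
    Nat.card (cen2 z F.s) = 4 * L.length *
      Nat.card (cen2 z F.s ⊓ Subgroup.centralizer ({T.r * T.x} : Set G) : Subgroup G) := by
  classical
  set t := T.r * T.x with ht
  set C := cen2 z F.s with hC
  set K := (Subgroup.centralizer ({t} : Set G)).subgroupOf C with hK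
  -- representatives
  have hpick : ∀ a, ∃ r x : G, a ∈ reps → r ∈ fixIn F.R z ∧ x ∈ Q ∧ Commute x F.s ∧
      Eqv (F.av r) (vc a) ∧ D.c x = vc a := fun a => by
    by_cases ha : a ∈ reps
    · obtain ⟨-, h0, -⟩ := mem_reps ha
      obtain ⟨r, hr, he⟩ := F.exists_r h0
      obtain ⟨x, hx, hcx⟩ := D.coords.surj (vc a)
      exact ⟨r, x, fun _ => ⟨hr, hx, (F.commute_s_iff hx).2 (hcx ▸ h0), he, hcx⟩⟩
    · exact ⟨1, 1, fun h => absurd h ha⟩
  choose R X hRX using hpick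
  let Φ : (ℕ × ℕ) × (ZMod 2 × ZMod 2) → G := fun p => el z F.s p.2.1 p.2.2 * (R p.1.1 * X p.1.2)
  let dom : Finset ((ℕ × ℕ) × (ZMod 2 × ZMod 2)) := L.toFinset ×ˢ Finset.univ
  have hΦ : Set.InjOn Φ dom := by
    rintro ⟨⟨a, b⟩, i, j⟩ hp ⟨⟨a', b'⟩, i', j'⟩ hp' e
    simp only [dom, Finset.coe_product, Set.mem_prod, Finset.mem_coe, List.mem_toFinset,
      Finset.mem_univ, and_true] at hp hp'
    obtain ⟨ha, hb, -⟩ := sound _ hp
    obtain ⟨ha', hb', -⟩ := sound _ hp'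
    obtain ⟨hr, -, -, her, -⟩ := hRX a ha
    obtain ⟨-, hx, -, -, hcx⟩ := hRX b hb
    obtain ⟨hr', -, -, her', -⟩ := hRX a' ha'
    obtain ⟨-, hx', -, -, hcx'⟩ := hRX b' hb'
    have e : el z F.s i j * (R a * X b) = el z F.s i' j' * (R a' * X b') := e
    have hrho : ∀ {r x : G}, r ∈ fixIn F.R z → x ∈ Q → ∀ i j, D.ρ (el z F.s i j * (r * x)) = D.ρ r := by
      intro r x hr hx i j
      have hcr := (sig_of_mem hr).cz
      have hcx := (D.setup.z_commute hx).symm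
      have hce := (D.setup.z_commute (F.el_mem i j).1).symm
      rw [D.ρ_mul hce (hcr.mul_left hcx), D.ρ_mul hcr hcx, (D.ρ_ker hce).2 (F.el_mem i j).1,
        (D.ρ_ker hcx).2 hx, one_mul, mul_one]
    have hρ := congrArg D.ρ e
    rw [hrho hr hx, hrho hr' hx'] at hρ
    have hav : Eqv (F.av (R a)) (F.av (R a')) := Or.inl (by rw [av, hρ]; rfl)
    have haa : a = a' := rep_inj ha ha' (her.symm.trans (hav.trans her'))
    subst haa
    have hS := sig_of_mem hr
    have e2 : el z F.s i j * X b = el z F.s i' j' * X b' := by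
      rw [← mul_assoc, ← mul_assoc, ← (F.el_commute hS.cz hS.cs i j).eq,
        ← (F.el_commute hS.cz hS.cs i' j').eq, mul_assoc, mul_assoc] at e
      exact mul_left_cancel e
    have hc2 := congrArg D.c e2
    rw [D.coords.mul _ (F.el_mem i j).1 _ hx, D.coords.mul _ (F.el_mem i' j').1 _ hx', F.c_el, F.c_el,
      hcx, hcx'] at hc2
    have hbb : b = b' := rep_inj hb hb' (by
      rcases bit j with rfl | rfl <;> rcases bit j' with rfl | rfl <;>
        simp only [zero_smul, one_smul, zero_add] at hc2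
      · exact Or.inl hc2
      · exact Or.inr (hc2.trans (add_comm _ _))
      · right; rw [← hc2, add_comm v0, add_assoc, add_self_vec, add_zero]
      · exact Or.inl (add_left_cancel hc2))
    subst hbb
    obtain ⟨rfl, rfl⟩ := F.el_inj (mul_right_cancel e2)
    rfl
  -- the orbit
  haveI := Fintype.ofFinite (C ⧸ K)
  have hconj : ∀ a b : C, (a : G) * t * (a : G)⁻¹ = (b : G) * t * (b : G)⁻¹ ↔ a⁻¹ * b ∈ K := fun a b => by
    rw [hK, Subgroup.mem_subgroupOf, Subgroup.mem_centralizer_singleton_iff]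
    push_cast
    constructor
    · intro h
      calc (a : G)⁻¹ * b * t = (a : G)⁻¹ * ((b : G) * t * (b : G)⁻¹) * b := by group
        _ = (a : G)⁻¹ * ((a : G) * t * (a : G)⁻¹) * b := by rw [h]
        _ = t * ((a : G)⁻¹ * b) := by group
    · intro h
      calc (a : G) * t * (a : G)⁻¹ = (a : G) * (t * ((a : G)⁻¹ * b)) * (b : G)⁻¹ := by group
        _ = (a : G) * ((a : G)⁻¹ * b * t) * (b : G)⁻¹ := by rw [h]
        _ = (b : G) * t * (b : G)⁻¹ := by group
  let f : C ⧸ K → G := Quotient.lift (fun a : C => (a : G) * t * (a : G)⁻¹)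
    (fun a b h => (hconj a b).2 (QuotientGroup.leftRel_apply.1 h))
  have hf : Function.Injective f := by
    rintro ⟨a⟩ ⟨b⟩ h
    exact QuotientGroup.eq.2 ((hconj a b).1 h)
  have himg : Finset.univ.image f = dom.image Φ := by
    ext w
    simp only [Finset.mem_image, Finset.mem_univ, true_and]
    constructor
    · rintro ⟨q, rfl⟩
      obtain ⟨⟨g, hg⟩, rfl⟩ := QuotientGroup.mk_surjective q
      obtain ⟨hgz, hgs⟩ := mem_cen2.1 hg
      have hfix := F.rho_fix hgz hgs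
      obtain ⟨hr', hav⟩ := F.av_conj hgz hgs T.hr
      have hx' : g * T.x * g⁻¹ ∈ Q := D.setup.conj_mem hgz T.hx
      obtain ⟨a, ha, ea⟩ := exists_rep (conj_perp hfix P.va_perp)
      obtain ⟨b, hb, eb⟩ := exists_rep (conj_perp hfix P.vb_perp)
      obtain ⟨hr, -, -, her, -⟩ := hRX a ha
      obtain ⟨-, hx, -, -, hcx⟩ := hRX b hb
      obtain ⟨i, j, hij⟩ := eq_el_mul' (F := F) hr hr' hx hx'
        ((hav.trans ((T.ha.map hfix).trans ea)).trans her.symm)
        (by rw [← D.ρ_act hgz T.hx, hcx]; exact (T.hb.map hfix).trans eb)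
      refine ⟨((a, b), (i, j)), Finset.mem_product.2 ⟨List.mem_toFinset.2
        (complete _ hfix a b ha hb ea eb), Finset.mem_univ _⟩, ?_⟩
      show el z F.s i j * (R a * X b) = g * t * g⁻¹
      rw [← hij, ht]; group
    · rintro ⟨⟨⟨a, b⟩, i, j⟩, hp, rfl⟩
      obtain ⟨ha, hb, γ, hγ, hfix, hga, hgb⟩ := sound _ (List.mem_toFinset.1 (Finset.mem_product.1 hp).1)
      obtain ⟨hr, -, -, her, -⟩ := hRX a ha
      obtain ⟨-, hx, hxs, -, hcx⟩ := hRX b hb
      obtain ⟨g, hgz, hgs, rfl⟩ := F.exists_lift hγ hfix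
      obtain ⟨hr', hav⟩ := F.av_conj hgz hgs hr
      let T' : Std F P := ⟨g * R a * g⁻¹, g * X b * g⁻¹, hr', D.setup.conj_mem hgz hx,
        (hgs.mul_left hxs).mul_left hgs.inv_left, hav.trans ((her.map hfix).trans hga),
        by rw [← D.ρ_act hgz hx, hcx]; exact hgb⟩
      obtain ⟨i', j', hij'⟩ := T.eq_el_mul T'
      obtain ⟨k, hk, hk'⟩ := T.exists_shift_el (i + i') (j + j')
      obtain ⟨hkQ, hks⟩ := mem_fixIn.1 hk
      have hmem : g⁻¹ * k ∈ C := mem_cen2.2 ⟨hgz.inv_left.mul_left (D.setup.z_commute hkQ).symm,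
        hgs.inv_left.mul_left hks⟩
      refine ⟨(⟨g⁻¹ * k, hmem⟩ : C), ?_⟩
      show g⁻¹ * k * t * (g⁻¹ * k)⁻¹ = el z F.s i j * (R a * X b)
      calc g⁻¹ * k * t * (g⁻¹ * k)⁻¹ = g⁻¹ * (k * t * k⁻¹) * g := by group
        _ = g⁻¹ * (el z F.s i j * (el z F.s i' j' * (T.r * T.x))) * g := by
          rw [hk', ← mul_assoc (el z F.s i j), F.el_mul]
        _ = g⁻¹ * el z F.s i j * g * (R a * X b) := by
          rw [← hij']; simp only [T']; group
        _ = el z F.s i j * (R a * X b) := by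
          rw [(F.el_commute hgz.inv_left hgs.inv_left i j).eq, inv_mul_cancel_right]
  have hcard : K.index = 4 * L.length := by
    rw [Subgroup.index_eq_card, Nat.card_eq_fintype_card, ← Finset.card_univ,
      ← Finset.card_image_of_injective _ hf, himg, Finset.card_image_of_injOn hΦ, Finset.card_product,
      List.toFinset_card_of_nodup hL, Finset.card_univ, Fintype.card_prod, ZMod.card, mul_comm]
  have h1 := K.card_mul_index
  rw [hcard, hK, ← Subgroup.inf_subgroupOf_left,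
    Nat.card_congr (Subgroup.subgroupOfEquivOfLe inf_le_left).toEquiv, mul_comm] at h1
  exact h1.symm

/-- The standard elements of the two types are not conjugate. -/
theorem not_isConj_types (Ts : Std F sType) (Tc : Std F cType) :
    ¬ IsConj (Ts.r * Ts.x) (Tc.r * Tc.x) := by
  intro hc
  obtain ⟨g, hg⟩ := isConj_iff.1 hc
  have hS := card_cen2_s Ts pairsS pairsS_nodup (fun p => pairsS_sound) (fun γ h a b => pairsS_complete h)
  have hC := card_cen2_s Tc pairsC pairsC_nodup (fun p => pairsC_sound) (fun γ h a b => pairsC_complete h)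
  rw [pairsS_len] at hS
  rw [pairsC_len] at hC
  set ss := Nat.card (cen2 z F.s ⊓ Subgroup.centralizer ({Ts.r * Ts.x} : Set G) : Subgroup G) with hss
  set sc := Nat.card (cen2 z F.s ⊓ Subgroup.centralizer ({Tc.r * Tc.x} : Set G) : Subgroup G) with hsc
  obtain ⟨n, m, hm, hnm⟩ := Nat.exists_eq_two_pow_mul_odd (show sc ≠ 0 from Nat.card_pos.ne')
  have h15 : 2 ^ (n + 3) ∣ 15 * ss := by
    refine ⟨m, ?_⟩
    rw [pow_add, show 2 ^ n * 2 ^ 3 * m = 8 * (2 ^ n * m) by ring, ← hnm]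
    omega
  have h1 : 2 ^ (n + 3) ∣ ss :=
    (Nat.Coprime.pow_left (n + 3) (by norm_num : Nat.Coprime 2 15)).dvd_of_dvd_mul_left h15
  have heq : Nat.card (Subgroup.centralizer ({Ts.r * Ts.x} : Set G)) =
      Nat.card (Subgroup.centralizer ({Tc.r * Tc.x} : Set G)) := by
    have hinj : Function.Injective ((MulAut.conj g).toMonoidHom : G →* G) := (MulAut.conj g).injective
    rw [← Subgroup.card_map_of_injective (K := Subgroup.centralizer ({Ts.r * Ts.x} : Set G)) hinj]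
    congr 2
    ext w
    rw [Subgroup.mem_map_equiv, MulAut.conj_symm_apply, Subgroup.mem_centralizer_singleton_iff,
      Subgroup.mem_centralizer_singleton_iff, ← hg]
    constructor
    · intro h
      calc w * (g * (Ts.r * Ts.x) * g⁻¹) = g * ((g⁻¹ * w * g) * (Ts.r * Ts.x)) * g⁻¹ := by group
        _ = g * ((Ts.r * Ts.x) * (g⁻¹ * w * g)) * g⁻¹ := by rw [h]
        _ = g * (Ts.r * Ts.x) * g⁻¹ * w := by group
    · intro h
      calc g⁻¹ * w * g * (Ts.r * Ts.x) = g⁻¹ * (w * (g * (Ts.r * Ts.x) * g⁻¹)) * g := by group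
        _ = g⁻¹ * (g * (Ts.r * Ts.x) * g⁻¹ * w) * g := by rw [h]
        _ = Ts.r * Ts.x * (g⁻¹ * w * g) := by group
  have h2 : 2 ^ (n + 3) ∣ 2 * sc := by
    have h3 : ss ∣ Nat.card (Subgroup.centralizer ({Ts.r * Ts.x} : Set G)) :=
      Subgroup.card_dvd_of_le inf_le_right
    have h4 := two_part Tc _ (h1.trans (heq ▸ h3))
    rwa [card_cen2 Tc] at h4
  rw [hnm, pow_add, show 2 * (2 ^ n * m) = 2 ^ n * (2 * m) by ring] at h2
  have h5 := Nat.dvd_of_mul_dvd_mul_left (by positivity) h2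
  have h6 : Odd m := hm
  rw [Nat.odd_iff] at h6
  omega

end Frame

end Cfsg.Agent.LargeExt10.Co
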