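import Cfsg.Agent.LargeExt10.Co.Rank4
import Cfsg.Agent.LargeExt10.Co.Orbits

/-!
# Three classes of involutions
-/

set_option autoImplicit false

namespace Cfsg.Agent.LargeExt10.Co

open QuadraticMap Cfsg.Agent.Reflections Cfsg.Agent.LargeExtraspecial

variable {G : Type*} [Group G] [Finite G] {z : G} {Q : Subgroup G}

/-- A group of Conway type has exactly three classes of involutions. -/
theorem three_classes (D : Co z Q) :
    ∃ a b c : G, orderOf a = 2 ∧ orderOf b = 2 ∧ orderOf c = 2 ∧ ¬ IsConj a b ∧ ¬ IsConj a c ∧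
      ¬ IsConj b c ∧ ∀ x : G, orderOf x = 2 → IsConj x a ∨ IsConj x b ∨ IsConj x c := by
  haveI : Fact (Nat.Prime 2) := ⟨Nat.prime_two⟩
  obtain ⟨F⟩ := D.exists_frame
  obtain ⟨Ts⟩ := F.exists_std sType
  obtain ⟨Tc⟩ := F.exists_std cType
  refine ⟨z, Ts.r * Ts.x, Tc.r * Tc.x, ?_, ?_, ?_, Ts.not_isConj not_dvd_fixS_s,
    Tc.not_isConj not_dvd_fixS_c, Frame.not_isConj_types Ts Tc, fun w hw => ?_⟩
  · exact orderOf_eq_prime (by rw [pow_two]; exact D.setup.z_mul_self) D.setup.z_ne_one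
  · exact orderOf_eq_prime (by rw [pow_two]; exact Ts.sq) Ts.ne_one
  · exact orderOf_eq_prime (by rw [pow_two]; exact Tc.sq) Tc.ne_one
  have hw2 : w * w = 1 := by rw [← pow_two, ← hw]; exact pow_orderOf_eq_one w
  have hw1 : w ≠ 1 := fun e => by rw [e, orderOf_one] at hw; exact absurd hw (by norm_num)
  obtain ⟨g, hg⟩ := conj_into_centralizer D.setup hw2
  set t := g * w * g⁻¹ with ht
  have hwt : IsConj w t := isConj_of_conj
  have h2 : t * t = 1 := by
    rw [ht, show g * w * g⁻¹ * (g * w * g⁻¹) = g * (w * w) * g⁻¹ by group, hw2]; group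
  have h1 : t ≠ 1 := fun e => hw1 (conj_eq_one_iff.1 e)
  by_cases hQ : t ∈ Q
  · exact Or.inl (hwt.trans (F.isConj_of_mem_Q hQ h2 h1).symm)
  have hne : D.ρ t ≠ 1 := fun e => hQ ((D.ρ_ker hg).1 e)
  rcases rk_cases (D.ρ_mem hg) (D.rho_sq hg (h2 ▸ one_mem Q)) hne with ⟨hr, -⟩ | ⟨hr, -⟩
  · obtain ⟨hA, hB⟩ := Frame.classify_two Ts Tc hg h2 hQ hr
    by_cases ha : ∀ v, Q8 (Forms59.Inv.nmap (D.ρ t) v) = 0
    · rcases hA ha with h | h
      exacts [Or.inl (hwt.trans h.symm), Or.inr (Or.inl (hwt.trans h.symm))]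
    · exact Or.inr (Or.inr (hwt.trans (hB ha).symm))
  · rcases Frame.classify_four Ts Tc hg h2 hQ hr with h | h
    exacts [Or.inl (hwt.trans h.symm), Or.inr (Or.inl (hwt.trans h.symm))]

end Cfsg.Agent.LargeExt10.Co
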