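import Cfsg.Agent.LargeExt10.Co.Frame

/-!
# Involutions of `C(z)` of rank at most two in a group of Conway type
-/

set_option autoImplicit false

namespace Cfsg.Agent.LargeExt10.Co

open QuadraticMap Cfsg.Agent.Reflections Cfsg.Agent.LargeExtraspecial
open Cfsg.Agent.Forms59.Inv (nmap add_self_vec nmap_apply polar_nmap act_eq_add rk form_nmap nmap_conj
  range_polar two_rk_le rk_conj nmap_nmap)

/-- A nontrivial involution of `Ω` has rank two or four. -/
theorem rk_cases {γ : O8} (hγ : γ ∈ Cfsg.Omega (ZMod 2) ⇑Q8) (h2 : γ * γ = 1) (h1 : γ ≠ 1) :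
    (rk γ = 2 ∧ Nat.card (LinearMap.range (nmap γ)) = 4) ∨
      (rk γ = 4 ∧ Nat.card (LinearMap.range (nmap γ)) = 16) := by
  have he := (UnitaryOrthogonal.Involution.mem_omega_iff_even_rk (Q := Q8) hQ8 exc8 γ).1 hγ
  have hle := two_rk_le (Q := Q8) hQ8 h2
  simp only [Fintype.card_sum, Fintype.card_fin] at hle
  have h0 : rk γ ≠ 0 := fun e => by
    rw [rk, Submodule.finrank_eq_zero, LinearMap.range_eq_bot] at e
    exact h1 (isom_ext fun x => by rw [act_eq_add, e, LinearMap.zero_apply, add_zero, act_one])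
  obtain ⟨k, hk⟩ := he
  have hc : Nat.card (LinearMap.range (nmap γ)) = 2 ^ rk γ := by
    rw [Module.natCard_eq_pow_finrank (K := ZMod 2), Nat.card_zmod]; rfl
  have h : rk γ = 2 ∨ rk γ = 4 := by omega
  rcases h with h | h
  · exact Or.inl ⟨h, by rw [hc, h]; rfl⟩
  · exact Or.inr ⟨h, by rw [hc, h]; rfl⟩

/-- An involution of rank two moves some vector to a non-zero singular one. -/
theorem exists_singular_moved {γ : O8} (h2 : γ * γ = 1) (hr : rk γ = 2) :
    ∃ w, nmap γ w ≠ 0 ∧ Q8 (nmap γ w) = 0 := by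
  by_contra hall
  push Not at hall
  obtain ⟨p, hp⟩ : ∃ p, nmap γ p ≠ 0 := by
    by_contra h
    push Not at h
    rw [rk, LinearMap.range_eq_bot.2 (LinearMap.ext h), finrank_bot] at hr
    exact two_ne_zero hr.symm
  have hle : LinearMap.range (nmap γ) ≤ Submodule.span (ZMod 2) {nmap γ p} := by
    rintro _ ⟨q, rfl⟩
    by_contra hq
    have hq0 : nmap γ q ≠ 0 := fun e => hq (e ▸ zero_mem _)
    have hpq : nmap γ (p + q) ≠ 0 := fun e => hq (by
      rw [map_add] at e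
      have e' : nmap γ q = nmap γ p := by
        have := congrArg (nmap γ p + ·) e
        simpa [← add_assoc, add_self_vec] using this
      rw [e']; exact Submodule.subset_span rfl)
    have e1 := hall p hp
    have e2 := hall q hq0
    have e3 := hall _ hpq
    rw [map_add, QuadraticMap.map_add ⇑Q8, range_polar h2 ⟨p, rfl⟩ ⟨q, rfl⟩, add_zero] at e3
    revert e1 e2 e3
    generalize Q8 (nmap γ p) = a
    generalize Q8 (nmap γ q) = b
    revert a b
    decide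
  have := Submodule.finrank_mono hle
  rw [finrank_span_singleton hp] at this
  rw [rk] at hr
  omega

/-- The image of an isometry fixing `v0` under conjugation. -/
theorem conj_perp {γ : O8} (h : act γ v0 = v0) {v : V8} (hv : B8 v v0 = 0) : B8 (act γ v) v0 = 0 := by
  rw [← h, B8, act_polar]; exact hv

variable {G : Type*} [Group G] [Finite G] {z : G} {Q : Subgroup G} {D : Co z Q}

theorem isConj_of_conj {g t : G} : IsConj t (g * t * g⁻¹) := isConj_iff.2 ⟨g, rfl⟩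

namespace Frame

variable (F : Frame D)

theorem isConj_s : IsConj z F.s := by
  obtain ⟨g, hg, -⟩ := F.pair.conj
  exact isConj_iff.2 ⟨g, hg⟩

theorem isConj_zs : IsConj z (z * F.s) := by
  rw [← F.conj_y_s]; exact F.isConj_s.trans isConj_of_conj

/-- A noncentral involution of `Q` goes to `s` under `C(z)`. -/
theorem exists_to_s (F : Frame D) {q : G} (hq : q ∈ Q) (h2 : q * q = 1) (h1 : q ≠ 1) (hqz : q ≠ z) :
    ∃ g, Commute g z ∧ g * q * g⁻¹ = F.s := by
  have hc : D.c q ≠ 0 := fun e => by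
    rcases D.setup.zpowers_cases ((D.coords.ker q hq).1 e) with e' | e'
    exacts [h1 e', hqz e']
  obtain ⟨γ, hγ, hγq⟩ := exists_to_v0 hc ((D.sq_eq_one hq).1 h2)
  obtain ⟨k, hk, rfl⟩ := D.ρ_surj hγ
  obtain ⟨i, hi⟩ := F.eq_el (D.setup.conj_mem hk hq) (j := 1)
    (by rw [← D.ρ_act hk hq, hγq, one_smul])
  rcases bit i with rfl | rfl
  · exact ⟨k, hk, by rw [hi, el, pw_zero, pw_one, one_mul]⟩
  · refine ⟨F.y * k, (D.setup.z_commute F.hy).symm.mul_left hk, ?_⟩
    rw [show F.y * k * q * (F.y * k)⁻¹ = F.y * (k * q * k⁻¹) * F.y⁻¹ by group, hi, el, pw_one, pw_one,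
      F.y_zs]

/-- Noncentral involutions of `Q` are conjugate to `z`. -/
theorem isConj_of_mem_Q (F : Frame D) {q : G} (hq : q ∈ Q) (h2 : q * q = 1) (h1 : q ≠ 1) :
    IsConj z q := by
  by_cases hqz : q = z
  · rw [hqz]
  obtain ⟨g, -, hg⟩ := F.exists_to_s hq h2 h1 hqz
  exact (F.isConj_s.trans (hg ▸ isConj_of_conj.symm))

/-- Involutions of `R` are conjugate to `z`. -/
theorem isConj_of_mem_R {t : G} (ht : t ∈ F.R) (h2 : t * t = 1) (h1 : t ≠ 1) : IsConj z t := by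
  obtain ⟨k, -, hR⟩ := F.pair.conj
  rw [hR] at ht
  obtain ⟨q, hq, rfl⟩ := ht
  simp only [MulEquiv.coe_toMonoidHom, MulAut.conj_apply] at h1 h2 ⊢
  have hq2 : q * q = 1 := by
    have := congrArg (fun w => k⁻¹ * w * k) h2
    simp only [mul_one, inv_mul_cancel] at this
    rw [← this]; group
  exact (F.isConj_of_mem_Q hq hq2 fun e => h1 (by rw [e]; group)).trans isConj_of_conj

variable {F}

/-- An element fixing `s` whose action on `v0⊥` is small is `Sig`. -/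
theorem sig_of_small {u : G} (hz : Commute u z) (hs : Commute u F.s)
    (h : ∀ v, B8 v v0 = 0 → Eqv (nmap (D.ρ u) v) 0) : F.Sig u := by
  have hfix := F.rho_fix hz hs
  refine ⟨hz, hs, ?_, fun v hv => (h v hv).imp id fun e => e.trans (zero_add _)⟩
  refine eq_one_of_fix_hyp fun v hv => ?_
  rw [act_mul, act_eq_add _ v]
  rcases h v hv with e | e <;> rw [e]
  · rw [add_zero, act_eq_add, e, add_zero]
  · rw [zero_add, act_add, hfix, act_eq_add, e, zero_add, add_assoc, add_self_vec, add_zero]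

theorem sig_commute_perp {u : G} (hu : Commute u z) (hus : Commute u F.s) {v : V8} (hv : B8 v v0 = 0) :
    B8 (act (D.ρ u) v) v0 = 0 := conj_perp (F.rho_fix hu hus) hv

/-- The first parameter is equivariant. -/
theorem av_conj {g r : G} (hgz : Commute g z) (hgs : Commute g F.s) (hr : r ∈ fixIn F.R z) :
    g * r * g⁻¹ ∈ fixIn F.R z ∧ Eqv (F.av (g * r * g⁻¹)) (act (D.ρ g) (F.av r)) := by
  have hSr := sig_of_mem hr
  refine ⟨mem_fixIn.2 ⟨F.pair.right.conj_mem hgs (mem_fixIn.1 hr).1,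
    (hgz.mul_left hSr.cz).mul_left hgz.inv_left⟩, ?_⟩
  rw [av, av, D.ρ_mul (hgz.mul_left hSr.cz) hgz.inv_left, D.ρ_mul hgz hSr.cz, D.rho_inv hgz]
  have hfix := F.rho_fix hgz hgs
  set v := act (D.ρ g)⁻¹ yy + yy with hv
  have hvp : B8 v v0 = 0 := by
    have hfix' : act (D.ρ g)⁻¹ v0 = v0 := by
      conv_lhs => rw [← hfix, act_inv_act]
    rw [hv, B8, polar_add_left]
    conv_lhs => arg 1; rw [← hfix', act_polar]
    exact zadd2 _
  have hy : act (D.ρ g) (yy + v) = yy := by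
    rw [hv, add_comm _ yy, ← add_assoc yy, add_self_vec, zero_add, act_act_inv]
  conv in (nmap (D.ρ g * D.ρ r * (D.ρ g)⁻¹) yy) => rw [← hy]
  rw [nmap_conj, map_add, act_add]
  rcases hSr.small v hvp with e | e <;> rw [e]
  · rw [act_zero, add_zero]; exact Or.inl rfl
  · rw [hfix]; exact Or.inr rfl

/-- An involution of `C(z)` moving a vector to `v0` commutes with `s`. -/
theorem commute_s {t : G} (hz : Commute t z) (h2 : t * t = 1) {w : V8} (hw : nmap (D.ρ t) w = v0) :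
    Commute t F.s := by
  obtain ⟨x, hx, hcx⟩ := D.coords.surj w
  set e := t * x * t⁻¹ * x⁻¹ with he
  have heQ : e ∈ Q := D.setup.comm_mem hz hx
  have hce : D.c e = v0 := by
    rw [he, D.coords.mul _ (D.setup.conj_mem hz hx) _ (inv_mem hx), D.coords.c_inv hx,
      ← D.ρ_act hz hx, ← nmap_apply, hcx, hw]
  have ti : t⁻¹ = t := inv_eq_of_mul_eq_one_left h2
  have hee : e⁻¹ = e := inv_eq_of_mul_eq_one_left ((D.sq_eq_one heQ).2 (by rw [hce]; exact Q_v0))
  have hte : t * e * t⁻¹ = e := by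
    calc t * e * t⁻¹ = (t * t) * x * t⁻¹ * x⁻¹ * t⁻¹ := by rw [he]; group
      _ = x * t * x⁻¹ * t⁻¹ := by rw [h2, ti]; group
      _ = e⁻¹ := by rw [he]; group
      _ = e := hee
  obtain ⟨i, hi⟩ := F.eq_el heQ (j := 1) (by rw [hce, one_smul])
  have hc1 : Commute t (el z F.s i 1) := hi ▸ mul_inv_eq_iff_eq_mul.1 hte
  have hc2 : Commute t (pw z i) := by
    rcases pw_cases z i with ⟨-, e'⟩ | ⟨-, e'⟩ <;> rw [e']
    exacts [Commute.one_right _, hz]
  have := hc2.inv_right.mul_right hc1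
  rwa [el, pw_one, inv_mul_cancel_left] at this

variable (F)

/-- Normalising a moved singular vector. -/
theorem exists_at_v0 {t : G} (hz : Commute t z) (h2 : t * t = 1) (hQ : t ∉ Q) {w0 : V8}
    (hw0 : nmap (D.ρ t) w0 ≠ 0) (hq0 : Q8 (nmap (D.ρ t) w0) = 0) :
    ∃ g, Commute g z ∧ Commute (g * t * g⁻¹) z ∧ Commute (g * t * g⁻¹) F.s ∧
      g * t * g⁻¹ * (g * t * g⁻¹) = 1 ∧ g * t * g⁻¹ ∉ Q ∧
      act (D.ρ g) (nmap (D.ρ t) w0) = v0 ∧
      D.ρ (g * t * g⁻¹) = D.ρ g * D.ρ t * (D.ρ g)⁻¹ := by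
  obtain ⟨γ, hγ, hγu⟩ := exists_to_v0 hw0 hq0
  obtain ⟨g, hg, rfl⟩ := D.ρ_surj hγ
  have hz' : Commute (g * t * g⁻¹) z := (hg.mul_left hz).mul_left hg.inv_left
  have hρ : D.ρ (g * t * g⁻¹) = D.ρ g * D.ρ t * (D.ρ g)⁻¹ := by
    rw [D.ρ_mul (hg.mul_left hz) hg.inv_left, D.ρ_mul hg hz, D.rho_inv hg]
  have h2' : g * t * g⁻¹ * (g * t * g⁻¹) = 1 := by
    rw [show g * t * g⁻¹ * (g * t * g⁻¹) = g * (t * t) * g⁻¹ by group, h2]; group
  have hQ' : g * t * g⁻¹ ∉ Q := fun e => hQ (by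
    have := D.setup.conj_mem hg.inv_left e
    rwa [show g⁻¹ * (g * t * g⁻¹) * g⁻¹⁻¹ = t by group] at this)
  exact ⟨g, hg, hz', commute_s hz' h2' (by rw [hρ, nmap_conj, hγu]), h2', hQ', hγu, hρ⟩

theorem exists_sig {t : G} (hz : Commute t z) (h2 : t * t = 1) (hQ : t ∉ Q) (hr : rk (D.ρ t) = 2) :
    ∃ g, Commute g z ∧ g * t * g⁻¹ * (g * t * g⁻¹) = 1 ∧ F.Sig (g * t * g⁻¹) ∧ g * t * g⁻¹ ∉ Q := by
  have hsq := D.rho_sq hz (h2 ▸ one_mem Q)
  obtain ⟨w0, hw0, hq0⟩ := exists_singular_moved hsq hr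
  obtain ⟨g, hg, hz', hs', h2', hQ', hgu, hρ⟩ := F.exists_at_v0 hz h2 hQ hw0 hq0
  set t' := g * t * g⁻¹
  have hw : nmap (D.ρ t') (act (D.ρ g) w0) = v0 := by rw [hρ, nmap_conj, hgu]
  have hr' : rk (D.ρ t') = 2 := by rw [hρ, rk_conj, hr]
  have hsq' := D.rho_sq hz' (h2' ▸ one_mem Q)
  have hcard : Nat.card (LinearMap.range (nmap (D.ρ t'))) = 4 := by
    rw [Module.natCard_eq_pow_finrank (K := ZMod 2), Nat.card_zmod]
    exact (congrArg (2 ^ ·) hr').trans rfl
  generalize act (D.ρ g) w0 = w at hw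
  refine ⟨g, hg, h2', ⟨hz', hs', hsq', fun v hv => ?_⟩, hQ'⟩
  by_contra hv'
  push Not at hv'
  set u := nmap (D.ρ t') v with hu
  have hset : ({0, v0, u, u + v0} : Set V8) = LinearMap.range (nmap (D.ρ t')) := by
    refine Set.eq_of_subset_of_ncard_le ?_ ?_
    · rintro x (rfl | rfl | rfl | rfl)
      · exact zero_mem _
      · exact ⟨w, hw⟩
      · exact ⟨v, rfl⟩
      · exact add_mem ⟨v, rfl⟩ ⟨w, hw⟩
    · rw [← Nat.card_coe_set_eq, show Nat.card ↥((LinearMap.range (nmap (D.ρ t')) : Set V8)) = 4 from hcard]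
      have h3 : u + v0 ≠ 0 := fun e => hv'.2 (by
        have := congrArg (· + v0) e
        simpa [add_assoc, add_self_vec] using this)
      rw [Set.ncard_insert_of_notMem (by simp [v0_ne.symm, Ne.symm hv'.1, Ne.symm h3]),
        Set.ncard_insert_of_notMem (by
          simp only [Set.mem_insert_iff, Set.mem_singleton_iff, not_or]
          exact ⟨Ne.symm hv'.2, fun e => hv'.1 (right_eq_add.1 e)⟩),
        Set.ncard_pair (fun e => v0_ne (left_eq_add.1 e))]
  have hwv : B8 w v0 = 0 := by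
    rw [← hw, B8, ← form_nmap, hw]; exact Q_v0
  have hwu : B8 w u = 0 := by
    rw [hu, B8, polar_nmap hsq', hw, polar_comm]; exact hv
  refine v0_ne (hQ8.1 v0 fun x => ?_)
  show polar (⇑Q8) v0 x = 0
  rw [← hw, ← polar_nmap hsq']
  have hx : nmap (D.ρ t') x ∈ ({0, v0, u, u + v0} : Set V8) := hset ▸ ⟨x, rfl⟩
  rcases hx with e | e | e | e <;> rw [e]
  · rw [polar_zero_right]
  · exact hwv
  · exact hwu
  · rw [polar_add_right, show polar (⇑Q8) w u = 0 from hwu, show polar (⇑Q8) w v0 = 0 from hwv, add_zero]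

/-- The product of an element of `C_R(z)` with one of `C_Q(s)`, squared. -/
theorem sq_prod {r x : G} (hr : r ∈ fixIn F.R z) (hx : x ∈ Q) (hxs : Commute x F.s) :
    r * x * (r * x) = el z F.s (B8 (F.av r) (D.c x) + Q8 (D.c x)) (Q8 (F.av r) + B8 (F.av r) (D.c x)) := by
  have hS := sig_of_mem hr
  have h1 := inv_of_el (F := F) (comm_RQ hr hx hxs)
  generalize hd : B8 (F.av r) (D.c x) = d at h1 ⊢
  have h2 : r⁻¹ * x * r * x⁻¹ = el z F.s d d := by
    rw [show r⁻¹ * x * r * x⁻¹ = r⁻¹ * (x * r * x⁻¹ * r⁻¹) * r by group, h1,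
      (F.el_commute hS.cz.inv_left hS.cs.inv_left d d).eq]
    group
  calc r * x * (r * x) = (r * r) * (r⁻¹ * x * r * x⁻¹) * (x * x) := by group
    _ = _ := by
      rw [sq_R hr, h2, D.coords.sq x hx, show pw z (Q8 (D.c x)) = el z F.s (Q8 (D.c x)) 0 by
        rw [el, pw_zero, mul_one], F.el_mul, F.el_mul, zero_add, add_zero]

/-- A standard element of the given type. -/
structure Std (P : Pty) where
  r : G
  x : G
  hr : r ∈ fixIn F.R z
  hx : x ∈ Q
  hxs : Commute x F.s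
  ha : Eqv (F.av r) P.va
  hb : Eqv (D.c x) P.vb

theorem exists_std (P : Pty) : Nonempty (Std F P) := by
  obtain ⟨r, hr, ha⟩ := F.exists_r P.va_perp
  obtain ⟨x, hx, hb⟩ := D.coords.surj P.vb
  exact ⟨⟨r, x, hr, hx, (F.commute_s_iff hx).2 (hb ▸ P.vb_perp), ha, Or.inl hb⟩⟩

variable {F}

namespace Std

variable {P : Pty}

theorem eq_el_mul (T T' : Std F P) : ∃ i j, T'.r * T'.x = el z F.s i j * (T.r * T.x) := by
  have hS := sig_of_mem T.hr
  have hS' := sig_of_mem T'.hr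
  have hρ := hS'.rho_eq hS (T'.ha.trans T.ha.symm)
  have hc : Commute (T'.r * T.r⁻¹) z := hS'.cz.mul_left hS.cz.inv_left
  have hQ : T'.r * T.r⁻¹ ∈ Q := (D.ρ_ker hc).1 (by
    rw [D.ρ_mul hS'.cz hS.cz.inv_left, D.rho_inv hS.cz, hρ, mul_inv_cancel])
  obtain ⟨i, j, hij⟩ := F.eq_el_of_small hQ
    (F.inter_small hQ (mul_mem (mem_fixIn.1 T'.hr).1 (inv_mem (mem_fixIn.1 T.hr).1)))
  have hx : Eqv (D.c (T'.x * T.x⁻¹)) 0 := by
    rw [D.coords.mul _ T'.hx _ (inv_mem T.hx), D.coords.c_inv T.hx]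
    rcases T'.hb.trans T.hb.symm with e | e <;> rw [e]
    · exact Or.inl (add_self_vec _)
    · right; rw [add_comm (D.c T.x), add_assoc, add_self_vec, add_zero, zero_add]
  obtain ⟨k, l, hkl⟩ := F.eq_el_of_small (mul_mem T'.hx (inv_mem T.hx)) hx
  refine ⟨i + k, j + l, ?_⟩
  calc T'.r * T'.x = (T'.r * T.r⁻¹) * (T.r * (T'.x * T.x⁻¹) * T.r⁻¹) * (T.r * T.x) := by group
    _ = _ := by rw [hij, hkl, (F.el_commute hS.cz hS.cs k l).eq, mul_inv_cancel_right, F.el_mul]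

/-- Conjugation by `C_Q(s)` multiplies by every element of `⟨z, s⟩`. -/
theorem exists_shift_el (T : Std F P) (i j : ZMod 2) : ∃ k ∈ fixIn Q F.s,
    k * (T.r * T.x) * k⁻¹ = el z F.s i j * (T.r * T.x) := by
  obtain ⟨v, hv0, hva, hvb⟩ := P.exists_dual j (i + j)
  obtain ⟨k, hk, rfl⟩ := D.coords.surj v
  have hks := (F.commute_s_iff hk).2 hv0
  have hS := sig_of_mem T.hr
  refine ⟨k, mem_fixIn.2 ⟨hk, hks⟩, ?_⟩
  have h1 := comm_RQ T.hr hk hks
  rw [T.ha.polar_eq hv0, hva] at h1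
  have h2 : k * T.x * k⁻¹ * T.x⁻¹ = el z F.s (i + j) 0 := by
    rw [D.coords.comm _ hk _ T.hx, el, pw_zero, mul_one, polar_comm]
    congr 1
    exact (T.hb.polar_eq hv0).trans hvb
  calc k * (T.r * T.x) * k⁻¹ =
        (k * T.r * k⁻¹ * T.r⁻¹) * (T.r * (k * T.x * k⁻¹ * T.x⁻¹) * T.r⁻¹) * (T.r * T.x) := by group
    _ = _ := by
      rw [inv_of_el h1, h2, (F.el_commute hS.cz hS.cs _ _).eq, mul_inv_cancel_right, F.el_mul]
      congr 2 <;> first | rw [add_zero] | rw [add_comm i j, ← add_assoc, zadd2, zero_add]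

theorem exists_conj (T T' : Std F P) : ∃ k ∈ fixIn Q F.s, k * (T.r * T.x) * k⁻¹ = T'.r * T'.x := by
  obtain ⟨i, j, e⟩ := T.eq_el_mul T'
  obtain ⟨k, hk, hk'⟩ := T.exists_shift_el i j
  exact ⟨k, hk, hk'.trans e.symm⟩

theorem isConj (T T' : Std F P) : IsConj (T.r * T.x) (T'.r * T'.x) := by
  obtain ⟨k, -, e⟩ := T.exists_conj T'
  exact e ▸ isConj_of_conj

theorem B_rx (T : Std F P) : B8 (F.av T.r) (D.c T.x) = Q8 P.va := by
  rw [T.ha.polar_eq (T.hb.perp P.vb_perp), B8, polar_comm]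
  exact (T.hb.polar_eq P.va_perp).trans ((polar_comm _ _ _).trans P.B_ab)

theorem sq (T : Std F P) : (T.r * T.x) * (T.r * T.x) = 1 := by
  rw [F.sq_prod T.hr T.hx T.hxs, T.B_rx, T.ha.form_eq P.va_perp, T.hb.form_eq P.vb_perp, P.Q_ab, zadd2,
    F.el_zero]

theorem rho (T : Std F P) : D.ρ (T.r * T.x) = D.ρ T.r := by
  have hc := (D.setup.z_commute T.hx).symm
  rw [D.ρ_mul (sig_of_mem T.hr).cz hc, (D.ρ_ker hc).2 T.hx, mul_one]

theorem cz (T : Std F P) : Commute (T.r * T.x) z :=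
  (sig_of_mem T.hr).cz.mul_left (D.setup.z_commute T.hx).symm

theorem cs (T : Std F P) : Commute (T.r * T.x) F.s := (sig_of_mem T.hr).cs.mul_left T.hxs

theorem not_mem (T : Std F P) : T.r * T.x ∉ Q := fun h => by
  have hρ := (D.ρ_ker T.cz).2 h
  rw [T.rho] at hρ
  refine P.va_ne (T.ha.symm.trans (Or.inl ?_))
  rw [av, hρ, nmap_apply, act_one, add_self_vec]

theorem ne_one (T : Std F P) : T.r * T.x ≠ 1 := fun e => T.not_mem (e ▸ one_mem Q)

end Std

/-- Conjugation of a standard element by an element fixing `z`, `s` and moving the type correctly. -/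
theorem isConj_std {P : Pty} (T : Std F P) {g r x : G} (hgz : Commute g z) (hgs : Commute g F.s)
    (hr : r ∈ fixIn F.R z) (hx : x ∈ Q) (hxs : Commute x F.s) (ha : Eqv (act (D.ρ g) (F.av r)) P.va)
    (hb : Eqv (act (D.ρ g) (D.c x)) P.vb) : IsConj (T.r * T.x) (r * x) := by
  obtain ⟨hr', hav⟩ := F.av_conj hgz hgs hr
  let T' : Std F P := ⟨g * r * g⁻¹, g * x * g⁻¹, hr', D.setup.conj_mem hgz hx,
    (hgs.mul_left hxs).mul_left hgs.inv_left, hav.trans ha, by rw [← D.ρ_act hgz hx]; exact hb⟩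
  exact (T.isConj T').trans (isConj_iff.2 ⟨g⁻¹, by simp only [T']; group⟩)

/-- The decomposition of an element acting as a transvection. -/
theorem Sig.decompose {u : G} (hS : F.Sig u) : ∃ r x, r ∈ fixIn F.R z ∧ x ∈ Q ∧ Commute x F.s ∧
    u = r * x ∧ Eqv (F.av r) (F.av u) ∧ D.ρ r = D.ρ u := by
  obtain ⟨r, hr, he⟩ := F.exists_r hS.av_perp
  have hSr := sig_of_mem hr
  have hρ := hSr.rho_eq hS he
  have hxz : Commute (r⁻¹ * u) z := hSr.cz.inv_left.mul_left hS.cz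
  exact ⟨r, r⁻¹ * u, hr, (D.ρ_ker hxz).1 (by
    rw [D.ρ_mul hSr.cz.inv_left hS.cz, D.rho_inv hSr.cz, hρ, inv_mul_cancel]),
    hSr.cs.inv_left.mul_left hS.cs, (mul_inv_cancel_left r u).symm, he, hρ⟩

/-- The classes of involutions acting as transvections. -/
theorem classify_sig (Ts : Std F sType) (Tc : Std F cType) {u : G} (hS : F.Sig u) (h2u : u * u = 1)
    (hQu : u ∉ Q) :
    (Q8 (F.av u) = 0 → IsConj z u ∨ IsConj (Ts.r * Ts.x) u) ∧
    (Q8 (F.av u) = 1 → IsConj (Tc.r * Tc.x) u) := by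
  obtain ⟨r, x, hr, hxQ, hxs, hux, he, hρ⟩ := hS.decompose
  have hu1 : u ≠ 1 := fun e => hQu (e ▸ one_mem Q)
  have hSr := sig_of_mem hr
  have hsq := F.sq_prod hr hxQ hxs
  rw [← hux, h2u] at hsq
  obtain ⟨e1, e2⟩ := F.el_inj (F.el_zero.trans hsq)
  have hbp : B8 (D.c x) v0 = 0 := (F.commute_s_iff hxQ).1 hxs
  have hap := hSr.av_perp
  rw [← he.form_eq hS.av_perp]
  refine ⟨fun hqa => ?_, fun hqa => ?_⟩
  · rw [hqa, zero_add] at e2
    rw [← e2, zero_add] at e1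
    have key : ¬ Eqv (F.av r) 0 := fun h => hQu ((D.ρ_ker hS.cz).1 (by
      rw [← hρ]
      refine eq_one_of_fix_hyp fun v hv => ?_
      rw [act_eq_add, hSr.nmap_eq hv, h.polar_eq hv, B8, polar_zero_left, zero_smul, add_zero]))
    by_cases hb0 : Eqv (D.c x) 0
    · obtain ⟨i, j, hij⟩ := F.eq_el_of_small hxQ hb0
      exact Or.inl (F.isConj_of_mem_R
        (by rw [hux, hij]; exact mul_mem (mem_fixIn.1 hr).1 (F.el_mem i j).2) h2u hu1)
    by_cases hba : Eqv (D.c x) (F.av r)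
    · left
      obtain ⟨hq, hqs, hqc⟩ := qel_spec hr
      obtain ⟨i, j, hij⟩ := F.eq_el_of_small (mul_mem (inv_mem hq) hxQ) (by
        rw [D.coords.mul _ (inv_mem hq) _ hxQ, D.coords.c_inv hq, hqc]
        rcases hba with e | e <;> rw [e]
        · exact Or.inl (add_self_vec _)
        · exact Or.inr (by rw [← add_assoc, add_self_vec]))
      have hy : F.y⁻¹ * u * F.y ∈ F.R := by
        rw [show F.y⁻¹ * u * F.y = r * (F.y⁻¹ * ((F.qel r)⁻¹ * x) * F.y) by rw [hux, qel]; group, hij]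
        refine mul_mem (mem_fixIn.1 hr).1 ?_
        rcases D.setup.conj_cases (inv_mem F.hy) (F.el_mem i j).1 with e' | e' <;> rw [inv_inv] at e' <;>
          rw [e']
        exacts [(F.el_mem i j).2, mul_mem F.pair.z_mem_right (F.el_mem i j).2]
      have h2y : F.y⁻¹ * u * F.y * (F.y⁻¹ * u * F.y) = 1 := by
        rw [show F.y⁻¹ * u * F.y * (F.y⁻¹ * u * F.y) = F.y⁻¹ * (u * u) * F.y by group, h2u]; group
      refine (F.isConj_of_mem_R hy h2y fun e' => hu1 ?_).trans (isConj_iff.2 ⟨F.y, by group⟩)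
      have := congrArg (fun w => F.y * w * F.y⁻¹) e'
      simpa [mul_assoc] using this
    right
    obtain ⟨γ, hγ, hfix, hga, hgb⟩ := exists_to_pairS hqa e1.symm hap hbp e2.symm key hb0 hba
    obtain ⟨g, hgz, hgs, rfl⟩ := F.exists_lift hγ hfix
    rw [hux]
    exact isConj_std Ts hgz hgs hr hxQ hxs hga hgb
  · rw [hqa] at e2
    have hB : B8 (F.av r) (D.c x) = 1 := by
      revert e2; generalize B8 (F.av r) (D.c x) = d; revert d; decide
    rw [hB] at e1
    have hqb : Q8 (D.c x) = 1 := by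
      revert e1; generalize Q8 (D.c x) = d; revert d; decide
    obtain ⟨γ, hγ, hfix, hga, hgb⟩ := exists_to_pairC hqa hqb hap hbp hB
    obtain ⟨g, hgz, hgs, rfl⟩ := F.exists_lift hγ hfix
    rw [hux]
    exact isConj_std Tc hgz hgs hr hxQ hxs hga hgb

/-- The classes of involutions of rank two. -/
theorem classify_two (Ts : Std F sType) (Tc : Std F cType) {t : G} (hz : Commute t z) (h2 : t * t = 1)
    (hQ : t ∉ Q) (hr : rk (D.ρ t) = 2) :
    ((∀ v, Q8 (nmap (D.ρ t) v) = 0) → IsConj z t ∨ IsConj (Ts.r * Ts.x) t) ∧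
    (¬ (∀ v, Q8 (nmap (D.ρ t) v) = 0) → IsConj (Tc.r * Tc.x) t) := by
  obtain ⟨g, hg, h2u, hS, hQu⟩ := F.exists_sig hz h2 hQ hr
  have hback : IsConj (g * t * g⁻¹) t := isConj_of_conj.symm
  obtain ⟨hA, hB⟩ := classify_sig Ts Tc hS h2u hQu
  have hρ : D.ρ (g * t * g⁻¹) = D.ρ g * D.ρ t * (D.ρ g)⁻¹ := by
    rw [D.ρ_mul (hg.mul_left hz) hg.inv_left, D.ρ_mul hg hz, D.rho_inv hg]
  have halt : (∀ v, Q8 (nmap (D.ρ t) v) = 0) ↔ Q8 (F.av (g * t * g⁻¹)) = 0 := by
    constructor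
    · intro h
      rw [av, show nmap (D.ρ (g * t * g⁻¹)) yy =
        nmap (D.ρ g * D.ρ t * (D.ρ g)⁻¹) (act (D.ρ g) (act (D.ρ g)⁻¹ yy)) by rw [act_act_inv, hρ],
        nmap_conj, act_Q]
      exact h _
    · intro h v
      have hn : ∀ u, Q8 (nmap (D.ρ (g * t * g⁻¹)) u) = 0 := by
        intro u
        have hp : ∀ p, B8 p v0 = 0 → Q8 (nmap (D.ρ (g * t * g⁻¹)) p) = 0 := fun p hp => by
          rcases hS.small p hp with e | e <;> rw [e]
          exacts [QuadraticMap.map_zero _, Q_v0]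
        rcases bit (B8 u v0) with e | e
        · exact hp u e
        · have hx : B8 (u + yy) v0 = 0 := by
            rw [B8, polar_add_left, show polar (⇑Q8) u v0 = 1 from e,
              show polar (⇑Q8) yy v0 = 1 from B_yy]
            rfl
          rw [show u = (u + yy) + yy by rw [add_assoc, add_self_vec, add_zero], map_add,
            QuadraticMap.map_add ⇑Q8, hp _ hx, range_polar hS.inv ⟨_, rfl⟩ ⟨_, rfl⟩, add_zero, zero_add]
          exact h
      have := hn (act (D.ρ g) v)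
      rwa [hρ, nmap_conj, act_Q] at this
  refine ⟨fun h => ?_, fun h => ?_⟩
  · exact (hA (halt.1 h)).imp (·.trans hback) (·.trans hback)
  · exact (hB ((bit _).resolve_left fun e => h (halt.2 e))).trans hback

end Frame

end Cfsg.Agent.LargeExt10.Co
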