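import Cfsg.Agent.LargeExt10.Co.Model

/-!
# Consequences of the checks on the eight-dimensional model
-/

set_option autoImplicit false

namespace Cfsg.Agent.LargeExt10.Co

open QuadraticMap Cfsg.Agent.Reflections Cfsg.Agent.OrthCohom
open Cfsg.Agent.Forms59.Inv (add_self_vec nmap nmap_apply act_eq_add)

theorem hQ8 : Q8.polarBilin.Nondegenerate := nondegenerate_of_table coded8 nondeg8_ok

theorem exc8 : Nat.card (ZMod 2) ≠ 2 ∨ Fintype.card (Fin 4 ⊕ Fin 4) ≠ 4 := Or.inr (by simp)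

theorem bit : ∀ a : ZMod 2, a = 0 ∨ a = 1 := by decide

theorem mem_codes {k : ℕ} : k ∈ codes ↔ k < 256 := List.mem_range

theorem vc_surj (v : V8) : ∃ k < 256, vc k = v :=
  vec_surj (finSumFinEquiv : Fin 4 ⊕ Fin 4 ≃ Fin (4 + 4)) v

theorem vc_inj {a b : ℕ} (ha : a < 256) (hb : b < 256) (h : vc a = vc b) : a = b :=
  vec_inj _ ha hb h

theorem q_vc {k : ℕ} (hk : k < 256) : Q8 (vc k) = if qm k then 1 else 0 := coded8.q_vec hk

theorem B_vc {a b : ℕ} (ha : a < 256) (hb : b < 256) :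
    B8 (vc a) (vc b) = if orth a b then 0 else 1 := by
  rw [B8, coded8.polar_vec ha hb, orth]
  cases bilB qm a b <;> simp

theorem qm_false {k : ℕ} (hk : k < 256) (h : Q8 (vc k) = 0) : qm k = false := by
  rw [q_vc hk] at h
  cases hq : qm k
  · rfl
  · simp [hq] at h

theorem qm_true {k : ℕ} (hk : k < 256) (h : Q8 (vc k) = 1) : qm k = true := by
  rw [q_vc hk] at h
  cases hq : qm k
  · simp [hq] at h
  · rfl

theorem orth_true {a b : ℕ} (ha : a < 256) (hb : b < 256) (h : B8 (vc a) (vc b) = 0) :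
    orth a b = true := by
  rw [B_vc ha hb] at h
  cases hq : orth a b
  · simp [hq] at h
  · rfl

theorem orth_false {a b : ℕ} (ha : a < 256) (hb : b < 256) (h : B8 (vc a) (vc b) = 1) :
    orth a b = false := by
  rw [B_vc ha hb] at h
  cases hq : orth a b
  · rfl
  · simp [hq] at h

theorem B_of_orth {a b : ℕ} (ha : a < 256) (hb : b < 256) (h : orth a b = true) :
    B8 (vc a) (vc b) = 0 := by
  rw [B_vc ha hb, h]; rfl

theorem B_one {a b : ℕ} (ha : a < 256) (hb : b < 256) (h : orth a b = false) :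
    B8 (vc a) (vc b) = 1 := by
  rw [B_vc ha hb, h]; rfl

theorem vc_xor (a b : ℕ) : vc (a ^^^ b) = vc a + vc b := vec_xor _ _ _

theorem vc_zero : vc 0 = 0 := vec_zero _

theorem xor_lt {a b : ℕ} (ha : a < 256) (hb : b < 256) : a ^^^ b < 256 :=
  Nat.xor_lt_two_pow (n := 8) ha hb

theorem Q_of {k : ℕ} {e : Bool} (hk : k < 256) (h : qm k = e) : Q8 (vc k) = if e then 1 else 0 := by
  rw [q_vc hk, h]

theorem Q_v0 : Q8 v0 = 0 := Q_of (e := false) (by norm_num) (by decide +kernel)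
theorem Q_yy : Q8 yy = 0 := Q_of (e := false) (by norm_num) (by decide +kernel)
theorem Q_p2 : Q8 p2 = 0 := Q_of (e := false) (by norm_num) (by decide +kernel)
theorem Q_p4 : Q8 p4 = 0 := Q_of (e := false) (by norm_num) (by decide +kernel)
theorem Q_ac : Q8 ac = 1 := Q_of (e := true) (by norm_num) (by decide +kernel)
theorem Q_bc : Q8 bc = 1 := Q_of (e := true) (by norm_num) (by decide +kernel)
theorem B_yy : B8 yy v0 = 1 := B_one (by norm_num) (by norm_num) (by decide +kernel)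
theorem B_p2 : B8 p2 v0 = 0 := B_of_orth (by norm_num) (by norm_num) (by decide +kernel)
theorem B_p4 : B8 p4 v0 = 0 := B_of_orth (by norm_num) (by norm_num) (by decide +kernel)
theorem B_ac : B8 ac v0 = 0 := B_of_orth (by norm_num) (by norm_num) (by decide +kernel)
theorem B_bc : B8 bc v0 = 0 := B_of_orth (by norm_num) (by norm_num) (by decide +kernel)
theorem B_24 : B8 p2 p4 = 0 := B_of_orth (by norm_num) (by norm_num) (by decide +kernel)
theorem B_cc : B8 ac bc = 1 := B_one (by norm_num) (by norm_num) (by decide +kernel)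
theorem v0_ne : v0 ≠ 0 := fun h => by
  have := B_yy; rw [h, B8, polar_zero_right] at this; exact zero_ne_one this

theorem zadd2 (a : ZMod 2) : a + a = 0 := CharTwo.add_self_eq_zero a

/-- Equality modulo `v0`. -/
def Eqv (u v : V8) : Prop := u = v ∨ u = v + v0

theorem Eqv.symm {u v : V8} (h : Eqv u v) : Eqv v u := by
  rcases h with e | e
  · exact Or.inl e.symm
  · right; rw [e, add_assoc, add_self_vec, add_zero]

theorem Eqv.trans {u v w : V8} (h : Eqv u v) (h' : Eqv v w) : Eqv u w := by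
  rcases h with e | e <;> rw [e] <;> rcases h' with e' | e' <;> rw [e']
  · exact Or.inl rfl
  · exact Or.inr rfl
  · exact Or.inr rfl
  · left; rw [add_assoc, add_self_vec, add_zero]

theorem Eqv.map {u v : V8} (h : Eqv u v) {γ : O8} (hγ : act γ v0 = v0) : Eqv (act γ u) (act γ v) := by
  rcases h with e | e <;> rw [e]
  · exact Or.inl rfl
  · right; rw [act_add, hγ]

theorem Eqv.polar_eq {u v x : V8} (h : Eqv u v) (hx : B8 x v0 = 0) : B8 u x = B8 v x := by
  rcases h with e | e <;> rw [e]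
  rw [B8, polar_add_left, polar_comm _ v0, show polar (⇑Q8) x v0 = 0 from hx, add_zero]

theorem Eqv.form_eq {u v : V8} (h : Eqv u v) (hv : B8 v v0 = 0) : Q8 u = Q8 v := by
  rcases h with e | e <;> rw [e]
  rw [QuadraticMap.map_add ⇑Q8, Q_v0, show polar (⇑Q8) v v0 = 0 from hv, add_zero, add_zero]

theorem Eqv.perp {u v : V8} (h : Eqv u v) (hv : B8 v v0 = 0) : B8 u v0 = 0 :=
  (h.polar_eq (polar_self_two _ _)).trans hv

theorem Eqv.add {u v u' v' : V8} (h : Eqv u v) (h' : Eqv u' v') : Eqv (u + u') (v + v') := by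
  rcases h with e | e <;> rcases h' with e' | e' <;> rw [e, e']
  · exact Or.inl rfl
  · right; abel
  · right; abel
  · left
    rw [add_add_add_comm, add_self_vec, add_zero]

theorem vc_same {a b : ℕ} (h : same a b = true) : Eqv (vc a) (vc b) := by
  simp only [same, Bool.or_eq_true, beq_iff_eq] at h
  rcases h with h | h
  · exact Or.inl (congrArg vc h)
  · exact Or.inr (by rw [h, vc_xor])

theorem same_of_eqv {a b : ℕ} (ha : a < 256) (hb : b < 256) (h : Eqv (vc a) (vc b)) :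
    same a b = true := by
  simp only [same, Bool.or_eq_true, beq_iff_eq]
  rcases h with h | h
  · exact Or.inl (vc_inj ha hb h)
  · exact Or.inr (vc_inj ha (xor_lt hb (by norm_num)) (by rw [h, vc_xor]))

theorem rf_lt {c u : ℕ} (hc : c < 256) (hu : u < 256) : rf c u < 256 := by
  unfold rf
  split <;> exact xor_lt hu (by first | exact hc | norm_num)

theorem act_rf {c u : ℕ} (hc : c < 256) (hq : qm c = true) (hu : u < 256) :
    act (refl Q8 (vc c)) (vc u) = vc (rf c u) := by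
  rw [act_refl (coded8.ne_zero hc hq), coded8.polar_vec hc hu, coded8.q_vec hc, show qmPlus 4 c = true from hq, rf]
  cases bilB (qmPlus 4) c u <;> simp [vec_zero, sub_vec, vec_xor]

theorem mem_ns {c : ℕ} (h : c ∈ ns) : c < 256 ∧ qm c = true := by
  simp only [ns, List.mem_filter, mem_codes] at h; exact h

theorem mem_ns0 {c : ℕ} (h : c ∈ ns0) : c ∈ ns ∧ B8 (vc c) v0 = 0 := by
  simp only [ns0, List.mem_filter] at h
  refine ⟨h.1, ?_⟩
  rw [B8, polar_comm]
  exact B_of_orth (by norm_num) (mem_ns h.1).1 h.2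

theorem mem_sing0 {u : ℕ} (hu : u < 256) (q : Q8 (vc u) = 0) (h0 : B8 (vc u) v0 = 0)
    (hne : ¬ Eqv (vc u) 0) : u ∈ sing0 := by
  refine List.mem_filter.2 ⟨mem_codes.2 hu, ?_⟩
  rw [qm_false hu q, orth_true (by norm_num : 1 < 256) hu (by rw [B8, polar_comm]; exact h0),
    show same u 0 = false from Bool.eq_false_iff.2 fun h => hne (vc_zero ▸ vc_same h)]
  rfl

/-- A pair of coded reflections gives a member of `Ω`. -/
theorem exists_omega {c d : ℕ} (hc : c ∈ ns) (hd : d ∈ ns) : ∃ γ : O8,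
    γ ∈ Cfsg.Omega (ZMod 2) ⇑Q8 ∧ (∀ k < 256, act γ (vc k) = vc (img c d k)) ∧
    (∀ v, B8 (vc c) v = 0 → B8 (vc d) v = 0 → act γ v = v) := by
  obtain ⟨hc1, hc2⟩ := mem_ns hc
  obtain ⟨hd1, hd2⟩ := mem_ns hd
  have hcne := coded8.ne_zero hc1 hc2
  have hdne := coded8.ne_zero hd1 hd2
  refine ⟨refl Q8 (vc c) * refl Q8 (vc d), ?_, fun k hk => ?_, fun v h1 h2 => ?_⟩
  · obtain ⟨δ, hδ, hδv⟩ := UnitaryOrthogonal.Involution.exists_rkHom (Q := Q8) hQ8 exc8
    rw [UnitaryOrthogonal.Involution.mem_omega_iff_even_rk hQ8 exc8,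
      ← UnitaryOrthogonal.Involution.ofAdd_cast_eq_one_iff, ← hδ, map_mul, hδv (vc c) hcne,
      hδv (vc d) hdne, ← ofAdd_add]
    rfl
  · rw [act_mul, act_rf hd1 hd2 hk, act_rf hc1 hc2 (rf_lt hd1 hk)]
    rfl
  · rw [act_mul, refl_fix hdne h2, refl_fix hcne h1]

theorem exists_to_v0 {u : V8} (hu : u ≠ 0) (hq : Q8 u = 0) :
    ∃ γ ∈ Cfsg.Omega (ZMod 2) ⇑Q8, act γ u = v0 := by
  obtain ⟨k, hk, rfl⟩ := vc_surj u
  have h := chkSing_ok
  simp only [chkSing, List.all_eq_true, Bool.or_eq_true, beq_iff_eq, List.any_eq_true] at h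
  rcases h k (mem_codes.2 hk) with (h | h) | ⟨c, hc, d, hd, e⟩
  · exact absurd (by rw [h, vc_zero]) hu
  · rw [qm_false hk hq] at h; exact absurd h Bool.false_ne_true
  · obtain ⟨γ, hγ, hact, -⟩ := exists_omega hc hd
    exact ⟨γ, hγ, by rw [hact k hk, e]⟩

theorem exists_move {u : V8} (hq : Q8 u = 0) (hu : B8 u v0 = 0) (h : ¬ Eqv u 0) :
    ∃ γ ∈ Cfsg.Omega (ZMod 2) ⇑Q8, act γ v0 = v0 ∧ B8 u (act γ u) = 1 := by
  obtain ⟨k, hk, rfl⟩ := vc_surj u
  have h' := chkMove_ok
  simp only [chkMove, List.all_eq_true, List.any_eq_true, Bool.not_eq_true'] at h'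
  obtain ⟨c, hc, d, hd, e⟩ := h' k (mem_sing0 hk hq hu h)
  obtain ⟨hc', hc0⟩ := mem_ns0 hc
  obtain ⟨hd', hd0⟩ := mem_ns0 hd
  obtain ⟨γ, hγ, hact, hfix⟩ := exists_omega hc' hd'
  refine ⟨γ, hγ, hfix _ hc0 hd0, ?_⟩
  rw [hact k hk]
  exact B_one hk (rf_lt (mem_ns hc').1 (rf_lt (mem_ns hd').1 hk)) e

/-- Pairs with an anisotropic plane are conjugate under the stabiliser of `v0`. -/
theorem exists_to_pairC {a b : V8} (qa : Q8 a = 1) (qb : Q8 b = 1) (ha : B8 a v0 = 0)
    (hb : B8 b v0 = 0) (hab : B8 a b = 1) :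
    ∃ γ ∈ Cfsg.Omega (ZMod 2) ⇑Q8, act γ v0 = v0 ∧ Eqv (act γ a) ac ∧ Eqv (act γ b) bc := by
  obtain ⟨k, hk, rfl⟩ := vc_surj a
  have hk0 : k ∈ ns0 := List.mem_filter.2 ⟨List.mem_filter.2 ⟨mem_codes.2 hk, qm_true hk qa⟩,
    orth_true (by norm_num) hk (by rw [B8, polar_comm]; exact ha)⟩
  have h := chkFstC_ok
  simp only [chkFstC, List.all_eq_true, List.any_eq_true] at h
  obtain ⟨c, hc, d, hd, e⟩ := h k hk0
  obtain ⟨hc', hc0⟩ := mem_ns0 hc
  obtain ⟨hd', hd0⟩ := mem_ns0 hd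
  obtain ⟨γ, hγ, hact, hfix⟩ := exists_omega hc' hd'
  have hfix' := hfix _ hc0 hd0
  have ea : Eqv (act γ (vc k)) ac := by rw [hact k hk]; exact vc_same e
  obtain ⟨j, hj, ej⟩ := vc_surj (act γ b)
  have hb' : B8 (vc j) v0 = 0 := by
    rw [ej, show B8 (act γ b) v0 = B8 (act γ b) (act γ v0) by rw [hfix'], B8, act_polar]; exact hb
  have hj0 : j ∈ ns0 := List.mem_filter.2 ⟨List.mem_filter.2 ⟨mem_codes.2 hj,
    qm_true hj (by rw [ej, act_Q]; exact qb)⟩,
    orth_true (by norm_num) hj (by rw [B8, polar_comm]; exact hb')⟩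
  have hab' : B8 ac (vc j) = 1 := by
    rw [← ea.polar_eq hb', ej, B8, act_polar]; exact hab
  have h2 := chkSndC_ok
  simp only [chkSndC, List.all_eq_true, Bool.or_eq_true, List.any_eq_true, Bool.and_eq_true] at h2
  rcases h2 j hj0 with h2 | ⟨c', hc2, d', hd2, e1, e2⟩
  · rw [orth_false (by norm_num) hj hab'] at h2; exact absurd h2 Bool.false_ne_true
  obtain ⟨hc2', hc20⟩ := mem_ns0 hc2
  obtain ⟨hd2', hd20⟩ := mem_ns0 hd2
  obtain ⟨η, hη, hact2, hfix2⟩ := exists_omega hc2' hd2'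
  have f2 := hfix2 _ hc20 hd20
  refine ⟨η * γ, mul_mem hη hγ, by rw [act_mul, hfix', f2], ?_, by
    rw [act_mul, ← ej, hact2 j hj]; exact vc_same e2⟩
  rw [act_mul]
  exact (ea.map f2).trans (by rw [hact2 34 (by norm_num)]; exact vc_same e1)

/-- Pairs with a totally singular plane are conjugate under the stabiliser of `v0`. -/
theorem exists_to_pairS {a b : V8} (qa : Q8 a = 0) (qb : Q8 b = 0) (ha : B8 a v0 = 0)
    (hb : B8 b v0 = 0) (hab : B8 a b = 0) (a0 : ¬ Eqv a 0) (b0 : ¬ Eqv b 0) (hne : ¬ Eqv b a) :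
    ∃ γ ∈ Cfsg.Omega (ZMod 2) ⇑Q8, act γ v0 = v0 ∧ Eqv (act γ a) p2 ∧ Eqv (act γ b) p4 := by
  obtain ⟨k, hk, rfl⟩ := vc_surj a
  have h := chkFstS_ok
  simp only [chkFstS, List.all_eq_true, List.any_eq_true] at h
  obtain ⟨c, hc, d, hd, e⟩ := h k (mem_sing0 hk qa ha a0)
  obtain ⟨hc', hc0⟩ := mem_ns0 hc
  obtain ⟨hd', hd0⟩ := mem_ns0 hd
  obtain ⟨γ, hγ, hact, hfix⟩ := exists_omega hc' hd'
  have hfix' := hfix _ hc0 hd0
  have ea : Eqv (act γ (vc k)) p2 := by rw [hact k hk]; exact vc_same e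
  have hinv : act γ⁻¹ v0 = v0 := by conv_lhs => rw [← hfix', act_inv_act]
  obtain ⟨j, hj, ej⟩ := vc_surj (act γ b)
  have hb' : B8 (vc j) v0 = 0 := by
    rw [ej, show B8 (act γ b) v0 = B8 (act γ b) (act γ v0) by rw [hfix'], B8, act_polar]; exact hb
  have hne0 : ¬ Eqv (vc j) 0 := fun e' => b0 (by
    have := e'.map hinv
    rwa [ej, act_inv_act, act_zero] at this)
  have hne2 : inPlane 2 j = false := Bool.eq_false_iff.2 fun e' => by
    simp only [inPlane, Bool.or_eq_true] at e'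
    rcases e' with e' | e'
    · exact hne0 (vc_zero ▸ vc_same e')
    · refine hne ?_
      have := ((vc_same e').trans ea.symm).map hinv
      rwa [ej, act_inv_act, act_inv_act] at this
  have hab' : B8 p2 (vc j) = 0 := by
    rw [← ea.polar_eq hb', ej, B8, act_polar]; exact hab
  have h2 := chkSndS_ok
  simp only [chkSndS, List.all_eq_true, Bool.or_eq_true, List.any_eq_true, Bool.and_eq_true,
    Bool.not_eq_true'] at h2
  rcases h2 j (mem_sing0 hj (by rw [ej, act_Q]; exact qb) hb' hne0) with (h2 | h2) | ⟨c', hc2, d', hd2, e1, e2⟩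
  · rw [orth_true (by norm_num) hj hab'] at h2; exact absurd h2.symm Bool.false_ne_true
  · rw [hne2] at h2; exact absurd h2 Bool.false_ne_true
  obtain ⟨hc2', hc20⟩ := mem_ns0 hc2
  obtain ⟨hd2', hd20⟩ := mem_ns0 hd2
  obtain ⟨η, hη, hact2, hfix2⟩ := exists_omega hc2' hd2'
  have f2 := hfix2 _ hc20 hd20
  refine ⟨η * γ, mul_mem hη hγ, by rw [act_mul, hfix', f2], ?_, by
    rw [act_mul, ← ej, hact2 j hj]; exact vc_same e2⟩
  rw [act_mul]
  exact (ea.map f2).trans (by rw [hact2 2 (by norm_num)]; exact vc_same e1)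

theorem exists_shift : ∃ γ ∈ Cfsg.Omega (ZMod 2) ⇑Q8, act γ v0 = p4 ∧ act γ p2 = p2 := by
  have h := chkShift_ok
  simp only [chkShift, List.any_eq_true, beq_iff_eq] at h
  obtain ⟨c, hc, d, hd, e⟩ := h
  simp only [ns02, List.mem_filter] at hc hd
  obtain ⟨γ, hγ, hact, hfix⟩ := exists_omega hc.1 hd.1
  refine ⟨γ, hγ, by rw [v0, hact 1 (by norm_num), e], hfix _ ?_ ?_⟩
  · rw [B8, polar_comm]; exact B_of_orth (by norm_num) (mem_ns hc.1).1 hc.2
  · rw [B8, polar_comm]; exact B_of_orth (by norm_num) (mem_ns hd.1).1 hd.2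

/-- Vectors orthogonal to the hyperplane `v0⊥`. -/
theorem eqv_zero_of_perp {v : V8} (h : ∀ x, B8 x v0 = 0 → B8 v x = 0) : Eqv v 0 := by
  obtain ⟨k, hk, rfl⟩ := vc_surj v
  have hc := chkHyp_ok
  simp only [chkHyp, List.all_eq_true, Bool.or_eq_true, Bool.not_eq_true', beq_iff_eq] at hc
  have hperp : (hyp.all (orth k)) = true := List.all_eq_true.2 fun x hx => by
    simp only [hyp, List.mem_filter, mem_codes] at hx
    exact orth_true hk hx.1 (h _ (B_of_orth hx.1 (by norm_num) hx.2))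
  rcases hc k (mem_codes.2 hk) with (h0 | h0) | h0
  · rw [hperp] at h0; exact absurd h0.symm Bool.false_ne_true
  · left; rw [h0, vc_zero]
  · right; rw [h0, zero_add]

/-- An isometry fixing the hyperplane `v0⊥` pointwise is trivial. -/
theorem eq_one_of_fix_hyp {γ : O8} (h : ∀ x, B8 x v0 = 0 → act γ x = x) : γ = 1 := by
  have hy : act γ yy = yy := by
    have he : Eqv (act γ yy + yy) 0 := eqv_zero_of_perp fun x hx => by
      rw [B8, polar_add_left]
      conv_lhs => arg 1; rw [← h x hx, act_polar]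
      exact CharTwo.add_self_eq_zero _
    rcases he with e | e
    · have := congrArg (· + yy) e
      simpa [add_assoc, add_self_vec] using this
    · exfalso
      have e2 : act γ yy = yy + v0 := by
        have := congrArg (· + yy) e
        simp only [add_assoc, add_self_vec, add_zero, zero_add] at this
        rw [this, add_comm]
      have h1 := act_Q γ yy
      rw [e2, QuadraticMap.map_add ⇑Q8, Q_v0, show polar (⇑Q8) yy v0 = 1 from B_yy, add_zero] at h1
      exact one_ne_zero (add_eq_left.1 h1)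
  refine isom_ext fun x => ?_
  rw [act_one]
  rcases bit (B8 x v0) with e | e
  · exact h x e
  · have hx : B8 (x + yy) v0 = 0 := by
      rw [B8, polar_add_left, show polar (⇑Q8) x v0 = 1 from e,
        show polar (⇑Q8) yy v0 = 1 from B_yy]
      rfl
    have h1 := h _ hx
    rw [act_add, hy] at h1
    exact add_right_cancel h1

/-- An orbit type of pairs orthogonal to `v0`, with what is checked about it. -/
structure Pty where
  a : ℕ
  b : ℕ
  u2 : ℕ
  u3 : ℕ
  a_lt : a < 256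
  b_lt : b < 256
  u2_lt : u2 < 256
  u3_lt : u3 < 256
  a0 : orth a 1 = true
  b0 : orth b 1 = true
  ab : (if orth a b then 0 else 1 : ZMod 2) = if qm a then 1 else 0
  qab : qm a = qm b
  out : orth a 64 = true ∧ orth b 64 = false
  d1 : ℕ
  d1_lt : d1 < 256
  d1_ok : orth d1 1 = true ∧ orth a d1 = false ∧ orth b d1 = true
  a_ne : same a 0 = false
  perp_ok : chkPerp a b = true
  dec_ok : chkDec a b u2 u3 = true

/-- The totally singular type. -/
def sType : Pty where
  a := 2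
  b := 4
  u2 := 32
  u3 := 64
  a_lt := by norm_num
  b_lt := by norm_num
  u2_lt := by norm_num
  u3_lt := by norm_num
  a0 := by decide +kernel
  b0 := by decide +kernel
  ab := by decide +kernel
  qab := by decide +kernel
  out := by decide +kernel
  d1 := 32
  d1_lt := by norm_num
  d1_ok := by decide +kernel
  a_ne := by decide +kernel
  perp_ok := chkPerpS_ok
  dec_ok := chkDecS_ok

/-- The anisotropic type. -/
def cType : Pty where
  a := 34
  b := 70
  u2 := 34
  u3 := 70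
  a_lt := by norm_num
  b_lt := by norm_num
  u2_lt := by norm_num
  u3_lt := by norm_num
  a0 := by decide +kernel
  b0 := by decide +kernel
  ab := by decide +kernel
  qab := by decide +kernel
  out := by decide +kernel
  d1 := 70
  d1_lt := by norm_num
  d1_ok := by decide +kernel
  a_ne := by decide +kernel
  perp_ok := chkPerpC_ok
  dec_ok := chkDecC_ok

namespace Pty

variable (P : Pty)

abbrev va : V8 := vc P.a
abbrev vb : V8 := vc P.b

theorem va_perp : B8 P.va v0 = 0 := B_of_orth P.a_lt (by norm_num) P.a0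
theorem vb_perp : B8 P.vb v0 = 0 := B_of_orth P.b_lt (by norm_num) P.b0

theorem B_ab : B8 P.va P.vb = Q8 P.va := by rw [B_vc P.a_lt P.b_lt, q_vc P.a_lt, P.ab]

theorem Q_ab : Q8 P.vb = Q8 P.va := by rw [q_vc P.b_lt, q_vc P.a_lt, P.qab]

theorem out_a : B8 P.va (vc 64) = 0 := B_of_orth P.a_lt (by norm_num) P.out.1
theorem out_b : B8 P.vb (vc 64) = 1 := B_one P.b_lt (by norm_num) P.out.2

theorem va_ne : ¬ Eqv P.va 0 := fun h => by
  rw [← vc_zero] at h
  have := same_of_eqv P.a_lt (by norm_num) h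
  rw [P.a_ne] at this
  exact Bool.false_ne_true this

/-- Dual vectors to `a` and `b` orthogonal to `v0`. -/
theorem exists_dual (p q : ZMod 2) : ∃ v, B8 v v0 = 0 ∧ B8 P.va v = p ∧ B8 P.vb v = q := by
  refine ⟨p • vc P.d1 + q • vc 64, ?_, ?_, ?_⟩
  · rw [B8, polar_add_left, polar_smul_left, polar_smul_left,
      show polar (⇑Q8) (vc P.d1) v0 = 0 from B_of_orth P.d1_lt (by norm_num) P.d1_ok.1,
      show polar (⇑Q8) (vc 64) v0 = 0 from B_of_orth (by norm_num) (by norm_num) (by decide +kernel),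
      smul_zero, smul_zero, add_zero]
  · rw [B8, polar_add_right, polar_smul_right, polar_smul_right,
      show polar (⇑Q8) P.va (vc P.d1) = 1 from B_one P.a_lt P.d1_lt P.d1_ok.2.1,
      show polar (⇑Q8) P.va (vc 64) = 0 from P.out_a, smul_zero, add_zero, smul_eq_mul, mul_one]
  · rw [B8, polar_add_right, polar_smul_right, polar_smul_right,
      show polar (⇑Q8) P.vb (vc P.d1) = 0 from B_of_orth P.b_lt P.d1_lt P.d1_ok.2.2,
      show polar (⇑Q8) P.vb (vc 64) = 1 from P.out_b, smul_zero, zero_add, smul_eq_mul, mul_one]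

/-- Membership of `⟨v0, a, b⟩`. -/
def InSpan (v : V8) : Prop := ∃ k ∈ span P.a P.b, vc k = v

theorem span_lt {k : ℕ} (h : k ∈ span P.a P.b) : k < 256 := by
  have := P.a_lt
  have := P.b_lt
  simp only [span, List.mem_cons, List.not_mem_nil, or_false] at h
  rcases h with rfl | rfl | rfl | rfl | rfl | rfl | rfl | rfl <;>
    first | assumption | (norm_num; done) |
      exact xor_lt (by first | assumption | exact xor_lt ‹_› ‹_›) (by first | assumption | norm_num)

theorem inSpan_of_perp {v : V8}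
    (h : ∀ x, B8 x v0 = 0 → B8 x P.va = 0 → B8 x P.vb = 0 → B8 v x = 0) : P.InSpan v := by
  obtain ⟨k, hk, rfl⟩ := vc_surj v
  have hc := P.perp_ok
  simp only [chkPerp, List.all_eq_true, Bool.or_eq_true, Bool.not_eq_true'] at hc
  rcases hc k (mem_codes.2 hk) with e | e
  · have : ((perp P.a P.b).all (orth k)) = true := List.all_eq_true.2 fun x hx => by
      simp only [perp, List.mem_filter, Bool.and_eq_true, mem_codes] at hx
      obtain ⟨hx', ⟨x1, x2⟩, x3⟩ := hx
      exact orth_true hk hx' (h _ (B_of_orth hx' (by norm_num) x1) (B_of_orth hx' P.a_lt x2)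
        (B_of_orth hx' P.b_lt x3))
    rw [this] at e
    exact absurd e.symm Bool.false_ne_true
  · exact ⟨k, List.contains_iff_mem.1 e, rfl⟩

/-- The pointwise stabiliser of `{v0, a, b}⊥`. -/
noncomputable def fixS : Subgroup O8 where
  carrier := {γ | ∀ x, B8 x v0 = 0 → B8 x P.va = 0 → B8 x P.vb = 0 → act γ x = x}
  one_mem' := fun x _ _ _ => act_one x
  mul_mem' := fun {g h} hg hh x a b c => by rw [act_mul, hh x a b c, hg x a b c]
  inv_mem' := fun {g} hg x a b c => by
    conv_lhs => rw [← hg x a b c, act_inv_act]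

theorem fix_moved {γ : O8} (hγ : γ ∈ P.fixS) (u : V8) : P.InSpan (nmap γ u) := by
  refine P.inSpan_of_perp fun x h0 h1 h2 => ?_
  rw [nmap_apply, B8, polar_add_left]
  conv_lhs => arg 1; rw [← hγ x h0 h1 h2, act_polar]
  exact CharTwo.add_self_eq_zero _

theorem decomp (v : V8) : ∃ p q r : ZMod 2, ∃ w : V8,
    v = p • yy + q • vc P.u2 + r • vc P.u3 + w ∧ B8 w v0 = 0 ∧ B8 w P.va = 0 ∧ B8 w P.vb = 0 := by
  obtain ⟨k, hk, rfl⟩ := vc_surj v
  have hd := P.dec_ok
  simp only [chkDec, List.all_eq_true, List.any_eq_true, Bool.and_eq_true] at hd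
  obtain ⟨j, hj, ⟨h1, h2⟩, h3⟩ := hd k (mem_codes.2 hk)
  have hu2 := P.u2_lt
  have hu3 := P.u3_lt
  simp only [List.mem_cons, List.not_mem_nil, or_false] at hj
  have key : ∀ (c : ℕ) (hc : c < 256) (p q r : ZMod 2), vc c = p • yy + q • vc P.u2 + r • vc P.u3 →
      orth (k ^^^ c) 1 = true → orth (k ^^^ c) P.a = true → orth (k ^^^ c) P.b = true →
      ∃ p q r : ZMod 2, ∃ w : V8, vc k = p • yy + q • vc P.u2 + r • vc P.u3 + w ∧
        B8 w v0 = 0 ∧ B8 w P.va = 0 ∧ B8 w P.vb = 0 := fun c hc p q r e o1 o2 o3 =>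
    ⟨p, q, r, vc (k ^^^ c), by rw [← e, vc_xor, add_left_comm, add_self_vec, add_zero],
      B_of_orth (xor_lt hk hc) (by norm_num) o1, B_of_orth (xor_lt hk hc) P.a_lt o2,
      B_of_orth (xor_lt hk hc) P.b_lt o3⟩
  rcases hj with rfl | rfl | rfl | rfl | rfl | rfl | rfl | rfl
  · exact key 0 (by norm_num) 0 0 0 (by simp [vc_zero]) h1 h2 h3
  · exact key 16 (by norm_num) 1 0 0 (by simp) h1 h2 h3
  · exact key _ hu2 0 1 0 (by simp) h1 h2 h3
  · exact key _ hu3 0 0 1 (by simp) h1 h2 h3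
  · exact key _ (xor_lt (by norm_num) hu2) 1 1 0 (by simp [vc_xor]) h1 h2 h3
  · exact key _ (xor_lt (by norm_num) hu3) 1 0 1 (by simp [vc_xor]) h1 h2 h3
  · exact key _ (xor_lt hu2 hu3) 0 1 1 (by simp [vc_xor]) h1 h2 h3
  · exact key _ (xor_lt (xor_lt (by norm_num) hu2) hu3) 1 1 1 (by simp [vc_xor]) h1 h2 h3

theorem card_fixS_le : Nat.card P.fixS ≤ (triples P.a P.b P.u2 P.u3).length := by
  classical
  let L := (triples P.a P.b P.u2 P.u3).map fun p => (vc p.1, vc p.2.1, vc p.2.2)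
  have himg : ∀ (γ : P.fixS) (u : ℕ), u < 256 → ∃ i, i ∈ (span P.a P.b).map (u ^^^ ·) ∧ i < 256 ∧
      vc i = act γ.1 (vc u) ∧ qm i = qm u := by
    intro γ u hu
    obtain ⟨k, hk, e⟩ := P.fix_moved γ.2 (vc u)
    have e1 : vc (u ^^^ k) = act γ.1 (vc u) := by rw [vc_xor, e, act_eq_add γ.1 (vc u)]
    refine ⟨u ^^^ k, List.mem_map.2 ⟨k, hk, rfl⟩, xor_lt hu (P.span_lt hk), e1, ?_⟩
    have h1 : Q8 (vc (u ^^^ k)) = Q8 (vc u) := by rw [e1, act_Q]
    rw [q_vc (xor_lt hu (P.span_lt hk)), q_vc hu] at h1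
    cases hA : qm (u ^^^ k) <;> cases hB : qm u <;> simp [hA, hB] at h1 ⊢
  have horth : ∀ (γ : O8) (i j u v : ℕ), i < 256 → j < 256 → u < 256 → v < 256 →
      vc i = act γ (vc u) → vc j = act γ (vc v) → orth i j = orth u v := by
    intro γ i j u v hi hj hu hv ei ej
    have h1 : B8 (vc i) (vc j) = B8 (vc u) (vc v) := by rw [ei, ej, B8, act_polar]
    rw [B_vc hi hj, B_vc hu hv] at h1
    cases hA : orth i j <;> cases hB : orth u v <;> simp [hA, hB] at h1 ⊢
  let F : P.fixS → {p : V8 × V8 × V8 // p ∈ L.toFinset} := fun γ =>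
    ⟨(act γ.1 yy, act γ.1 (vc P.u2), act γ.1 (vc P.u3)), by
      obtain ⟨i, hi, hi', ei, qi⟩ := himg γ 16 (by norm_num)
      obtain ⟨j, hj, hj', ej, qj⟩ := himg γ P.u2 P.u2_lt
      obtain ⟨k, hk, hk', ek, qk⟩ := himg γ P.u3 P.u3_lt
      rw [List.mem_toFinset, List.mem_map]
      refine ⟨(i, j, k), List.mem_filter.2 ⟨?_, ?_⟩, by rw [ei, ej, ek]⟩
      · simp only [List.mem_flatMap, List.mem_map]
        exact ⟨i, List.mem_filter.2 ⟨hi, by simp [qi]⟩, j, List.mem_filter.2 ⟨hj, by simp [qj]⟩,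
          k, List.mem_filter.2 ⟨hk, by simp [qk]⟩, rfl⟩
      · simp only [Bool.and_eq_true, beq_iff_eq]
        exact ⟨⟨horth γ.1 i j 16 P.u2 hi' hj' (by norm_num) P.u2_lt ei ej,
          horth γ.1 i k 16 P.u3 hi' hk' (by norm_num) P.u3_lt ei ek⟩,
          horth γ.1 j k P.u2 P.u3 hj' hk' P.u2_lt P.u3_lt ej ek⟩⟩
  have hF : Function.Injective F := by
    intro γ η e
    have e0 : act γ.1 yy = act η.1 yy := congrArg (fun p => p.1.1) e
    have e1 : act γ.1 (vc P.u2) = act η.1 (vc P.u2) := congrArg (fun p => p.1.2.1) e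
    have e2 : act γ.1 (vc P.u3) = act η.1 (vc P.u3) := congrArg (fun p => p.1.2.2) e
    refine Subtype.ext (isom_ext fun v => ?_)
    obtain ⟨p, q, r, w, rfl, w0, w1, w2⟩ := P.decomp v
    simp only [act_add, act_smul]
    rw [e0, e1, e2, γ.2 w w0 w1 w2, η.2 w w0 w1 w2]
  refine (Nat.card_le_card_of_injective F hF).trans ?_
  rw [Nat.card_eq_fintype_card, Fintype.card_coe]
  refine (List.toFinset_card_le _).trans ?_
  rw [List.length_map]

end Pty

theorem card_fixS_s : Nat.card sType.fixS ≤ 8 :=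
  sType.card_fixS_le.trans triplesS_len.le

theorem card_fixS_c : Nat.card cType.fixS ≤ 24 :=
  cType.card_fixS_le.trans triplesC_len.le

/-- The stabiliser for the anisotropic type has an element of order three. -/
theorem three_dvd_fixS_c : 3 ∣ Nat.card cType.fixS := by
  have ha : Q8 ac ≠ 0 := by rw [Q_ac]; exact one_ne_zero
  have hb : Q8 bc ≠ 0 := by rw [Q_bc]; exact one_ne_zero
  set g := refl Q8 ac * refl Q8 bc with hg
  have hmem : g ∈ cType.fixS := fun x _ h1 h2 => by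
    rw [hg, act_mul, refl_fix hb ((polar_comm _ _ _).trans h2), refl_fix ha ((polar_comm _ _ _).trans h1)]
  have hT := (coded8.tab_refl (v := 34) (by norm_num) (by decide +kernel)).mul
    (coded8.tab_refl (v := 70) (by norm_num) (by decide +kernel))
  have h3 : g ^ 3 = 1 := by
    rw [pow_succ, pow_two]
    refine Tab.ext ((hT.mul hT).mul hT) ?_
    convert tab_one using 1
    decide +kernel
  have h1 : g ≠ 1 := fun e => by
    have := hT.app_eq 34
    rw [show refl Q8 (vc 34) * refl Q8 (vc 70) = g from rfl, e, act_one] at this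
    exact absurd (vc_inj (by norm_num) (by decide +kernel) this) (by decide +kernel)
  haveI : Fact (Nat.Prime 3) := ⟨Nat.prime_three⟩
  have := Subgroup.orderOf_dvd_natCard cType.fixS hmem
  rwa [orderOf_eq_prime h3 h1] at this

/-- A vector in the span of the anisotropic type with value `0` lies in `⟨v0⟩`. -/
theorem singular_span_c {v : V8} (h : cType.InSpan v) (q : Q8 v = 0) : v = 0 ∨ v = v0 := by
  obtain ⟨k, hk, rfl⟩ := h
  have key : ∀ k ∈ span 34 70, qm k = false → k = 0 ∨ k = 1 := by decide +kernel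
  rcases key k hk (qm_false (cType.span_lt hk) q) with rfl | rfl
  · exact Or.inl vc_zero
  · exact Or.inr rfl

/-- The map `v ↦ B(p4, v) p2 + B(p2, v) p4`. -/
noncomputable def N0 (v : V8) : V8 := B8 p4 v • p2 + B8 p2 v • p4

theorem B_2_32 : B8 p2 (vc 32) = 1 := B_one (by norm_num) (by norm_num) (by decide +kernel)
theorem B_4_64 : B8 p4 (vc 64) = 1 := B_one (by norm_num) (by norm_num) (by decide +kernel)
theorem B_2_64 : B8 p2 (vc 64) = 0 := B_of_orth (by norm_num) (by norm_num) (by decide +kernel)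
theorem B_4_32 : B8 p4 (vc 32) = 0 := B_of_orth (by norm_num) (by norm_num) (by decide +kernel)
theorem B_32 : B8 (vc 32) v0 = 0 := B_of_orth (by norm_num) (by norm_num) (by decide +kernel)
theorem B_64 : B8 (vc 64) v0 = 0 := B_of_orth (by norm_num) (by norm_num) (by decide +kernel)
theorem B_2_yy : B8 p2 yy = 0 := B_of_orth (by norm_num) (by norm_num) (by decide +kernel)
theorem B_4_yy : B8 p4 yy = 0 := B_of_orth (by norm_num) (by norm_num) (by decide +kernel)

theorem N0_Q (v : V8) : Q8 (N0 v) = 0 := by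
  rw [N0]
  rcases bit (B8 p4 v) with e | e <;> rcases bit (B8 p2 v) with d | d <;> rw [e, d] <;>
    simp [QuadraticMap.map_add ⇑Q8, Q_p2, Q_p4, show polar (⇑Q8) p2 p4 = 0 from B_24]

theorem N0_perp (v : V8) : B8 (N0 v) v0 = 0 := by
  rw [N0, B8, polar_add_left, polar_smul_left, polar_smul_left,
    show polar (⇑Q8) p2 v0 = 0 from B_p2, show polar (⇑Q8) p4 v0 = 0 from B_p4, smul_zero, smul_zero,
    add_zero]

theorem N0_eqv_zero {v : V8} (h : Eqv (N0 v) 0) : B8 p2 v = 0 ∧ B8 p4 v = 0 := by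
  have h1 := h.polar_eq B_32
  have h2 := h.polar_eq B_64
  simp only [N0, B8, polar_add_left, polar_smul_left, polar_zero_left, smul_eq_mul,
    show polar (⇑Q8) p2 (vc 32) = 1 from B_2_32, show polar (⇑Q8) p4 (vc 32) = 0 from B_4_32,
    show polar (⇑Q8) p2 (vc 64) = 0 from B_2_64, show polar (⇑Q8) p4 (vc 64) = 1 from B_4_64,
    mul_zero, mul_one, add_zero, zero_add] at h1 h2
  exact ⟨h2, h1⟩

/-- The space fixed by `N0`. -/
def InFix (v : V8) : Prop := B8 v v0 = 0 ∧ B8 p2 v = 0 ∧ B8 p4 v = 0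

theorem InFix.add {u v : V8} (hu : InFix u) (hv : InFix v) : InFix (u + v) := by
  obtain ⟨u0, u2, u4⟩ := hu
  obtain ⟨w0, w2, w4⟩ := hv
  refine ⟨?_, ?_, ?_⟩
  · rw [B8, polar_add_left, show polar (⇑Q8) u v0 = 0 from u0, show polar (⇑Q8) v v0 = 0 from w0, add_zero]
  · rw [B8, polar_add_right, show polar (⇑Q8) p2 u = 0 from u2, show polar (⇑Q8) p2 v = 0 from w2, add_zero]
  · rw [B8, polar_add_right, show polar (⇑Q8) p4 u = 0 from u4, show polar (⇑Q8) p4 v = 0 from w4, add_zero]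

theorem InFix.of_eqv {u v : V8} (h : Eqv u v) (hv : InFix v) : InFix u :=
  ⟨h.perp hv.1, by rw [B8, polar_comm]; exact (h.polar_eq B_p2).trans ((polar_comm _ _ _).trans hv.2.1),
    by rw [B8, polar_comm]; exact (h.polar_eq B_p4).trans ((polar_comm _ _ _).trans hv.2.2)⟩

theorem inFix_8 : InFix (vc 8) :=
  ⟨B_of_orth (by norm_num) (by norm_num) (by decide +kernel),
    B_of_orth (by norm_num) (by norm_num) (by decide +kernel),
    B_of_orth (by norm_num) (by norm_num) (by decide +kernel)⟩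

theorem inFix_128 : InFix (vc 128) :=
  ⟨B_of_orth (by norm_num) (by norm_num) (by decide +kernel),
    B_of_orth (by norm_num) (by norm_num) (by decide +kernel),
    B_of_orth (by norm_num) (by norm_num) (by decide +kernel)⟩

theorem inFix_v0 : InFix v0 :=
  ⟨polar_self_two _ _, B_p2, B_p4⟩

theorem inFix_p2 : InFix p2 := ⟨B_p2, polar_self_two _ _, (polar_comm _ _ _).trans B_24⟩

theorem inFix_p4 : InFix p4 := ⟨B_p4, B_24, polar_self_two _ _⟩

theorem inFix_zero : InFix 0 := by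
  refine ⟨?_, ?_, ?_⟩ <;> rw [B8] <;> first | rw [polar_zero_left] | rw [polar_zero_right]

/-- Coordinates on the fixed space. -/
theorem InFix.form {u v : V8} (hu : InFix u) (hv : InFix v) :
    Q8 u = B8 u (vc 128) * B8 u (vc 8) ∧
    B8 u v = B8 u (vc 128) * B8 v (vc 8) + B8 v (vc 128) * B8 u (vc 8) ∧
    ∃ i j k : ZMod 2,
      u = B8 u (vc 128) • vc 8 + B8 u (vc 8) • vc 128 + (i • v0 + j • p2 + k • p4) := by
  have decode : ∀ w, InFix w → ∃ n, n < 256 ∧ vc n = w ∧ orth n 1 = true ∧ orth 2 n = true ∧ orth 4 n = true := by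
    intro w hw
    obtain ⟨n, hn, rfl⟩ := vc_surj w
    exact ⟨n, hn, rfl, orth_true hn (by norm_num) hw.1, orth_true (by norm_num) hn hw.2.1,
      orth_true (by norm_num) hn hw.2.2⟩
  have key : ∀ m ∈ (codes.filter fun n => orth n 1 && orth 2 n && orth 4 n),
      qm m = (!orth m 128 && !orth m 8) ∧
      (∀ n ∈ (codes.filter fun n => orth n 1 && orth 2 n && orth 4 n),
        (!orth m n) = xor (!orth m 128 && !orth n 8) (!orth n 128 && !orth m 8)) ∧
      ((span 2 4).contains (m ^^^ (if orth m 128 then 0 else 8) ^^^ (if orth m 8 then 0 else 128))) = true := by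
    decide +kernel
  obtain ⟨m, hm, rfl, m1, m2, m4⟩ := decode u hu
  obtain ⟨n, hn, rfl, n1, n2, n4⟩ := decode v hv
  obtain ⟨k1, k2, k3⟩ := key m (List.mem_filter.2 ⟨mem_codes.2 hm, by simp [m1, m2, m4]⟩)
  have k2' := k2 n (List.mem_filter.2 ⟨mem_codes.2 hn, by simp [n1, n2, n4]⟩)
  refine ⟨?_, ?_, ?_⟩
  · rw [q_vc hm, B_vc hm (by norm_num), B_vc hm (by norm_num), k1]
    cases orth m 128 <;> cases orth m 8 <;> simp
  · rw [B_vc hm hn, B_vc hm (by norm_num), B_vc hn (by norm_num), B_vc hm (by norm_num),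
      B_vc hn (by norm_num)]
    revert k2'
    cases orth m n <;> cases orth m 128 <;> cases orth m 8 <;> cases orth n 128 <;> cases orth n 8 <;>
      simp <;> decide
  · have e : ∀ j, vc j ∈ (span 2 4).map vc → ∃ i1 i2 i3 : ZMod 2, vc j = i1 • v0 + i2 • p2 + i3 • p4 := by
      intro j hj
      simp only [span, List.map_cons, List.map_nil, List.mem_cons, List.not_mem_nil, or_false] at hj
      rcases hj with e | e | e | e | e | e | e | e <;> rw [e]
      · exact ⟨0, 0, 0, by simp [vc_zero]⟩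
      · exact ⟨1, 0, 0, by simp⟩
      · exact ⟨0, 1, 0, by simp⟩
      · exact ⟨1, 1, 0, by simp only [vc_xor, one_smul, zero_smul, zero_add, add_zero]; abel⟩
      · exact ⟨0, 0, 1, by simp⟩
      · exact ⟨1, 0, 1, by simp only [vc_xor, one_smul, zero_smul, zero_add, add_zero]; abel⟩
      · exact ⟨0, 1, 1, by simp only [vc_xor, one_smul, zero_smul, zero_add]⟩
      · exact ⟨1, 1, 1, by simp only [vc_xor, one_smul]; abel⟩
    obtain ⟨i, j, k, e'⟩ := e _ (List.mem_map.2 ⟨_, List.contains_iff_mem.1 k3, rfl⟩)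
    refine ⟨i, j, k, ?_⟩
    rw [← e', vc_xor, vc_xor, B_vc hm (by norm_num), B_vc hm (by norm_num)]
    cases orth m 128 <;> cases orth m 8 <;> simp [vc_zero] <;> abel_nf <;>
      simp [two_smul, add_self_vec]

end Cfsg.Agent.LargeExt10.Co
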