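import Cfsg.Agent.Lib.OrthCohom.Plus
import Cfsg.Agent.Lib.UnitaryOrthogonal.Involution

/-!
# The eight-dimensional plus-type model over the field with two elements

A singular vector `v0`, an anisotropic plane `⟨ac, bc⟩` and a totally singular plane `⟨p2, p4⟩`
orthogonal to it, their stabilisers and the numbers of their conjugates, checked on coded vectors.
-/

set_option autoImplicit false

namespace Cfsg.Agent.LargeExt10.Co

open QuadraticMap Cfsg.Agent.Reflections Cfsg.Agent.OrthCohom

/-- The space. -/
abbrev V8 := Fin 4 ⊕ Fin 4 → ZMod 2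

/-- The form. -/
abbrev Q8 : QuadraticForm (ZMod 2) V8 := qPlus 4 (ZMod 2)

/-- The isometry group. -/
abbrev O8 := ↥(Cfsg.isometryGroup (ZMod 2) ⇑Q8)

/-- The polar form. -/
noncomputable abbrev B8 (u v : V8) : ZMod 2 := polar ⇑Q8 u v

/-- The vector with the given code. -/
abbrev vc (k : ℕ) : V8 := vec (finSumFinEquiv : Fin 4 ⊕ Fin 4 ≃ Fin (4 + 4)) k

abbrev v0 : V8 := vc 1
abbrev yy : V8 := vc 16
abbrev p2 : V8 := vc 2
abbrev p4 : V8 := vc 4
abbrev ac : V8 := vc 34
abbrev bc : V8 := vc 70

/-- The code of the form. -/
abbrev qm : ℕ → Bool := qmPlus 4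

/-- Whether the polar form vanishes. -/
def orth (a b : ℕ) : Bool := !bilB qm a b

/-- A reflection on codes. -/
def rf (c u : ℕ) : ℕ := u ^^^ if bilB qm c u then c else 0

def img (c d u : ℕ) : ℕ := rf c (rf d u)
def codes : List ℕ := List.range 256
def ns : List ℕ := codes.filter qm
def ns0 : List ℕ := ns.filter (orth 1)
def ns02 : List ℕ := ns.filter (orth 2)
def same (a b : ℕ) : Bool := a == b || a == b ^^^ 1
def sing0 : List ℕ := codes.filter fun u => !qm u && orth 1 u && !same u 0
def inPlane (a v : ℕ) : Bool := same v 0 || same v a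
def span (a b : ℕ) : List ℕ := [0, 1, a, a ^^^ 1, b, b ^^^ 1, a ^^^ b, a ^^^ b ^^^ 1]
def perp (a b : ℕ) : List ℕ := codes.filter fun x => orth x 1 && orth x a && orth x b
def hyp : List ℕ := codes.filter fun x => orth x 1

def chkSing : Bool := codes.all fun u => u == 0 || qm u ||
  ns.any fun c => ns.any fun d => img c d u == 1
def chkMove : Bool := sing0.all fun u => ns0.any fun c => ns0.any fun d => !orth u (img c d u)
def chkFstC : Bool := ns0.all fun a => ns0.any fun c => ns0.any fun d => same (img c d a) 34
def chkSndC : Bool := ns0.all fun b => orth 34 b || ns0.any fun c => ns0.any fun d =>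
  same (img c d 34) 34 && same (img c d b) 70
def chkFstS : Bool := sing0.all fun a => ns0.any fun c => ns0.any fun d => same (img c d a) 2
def chkSndS : Bool := sing0.all fun b => !orth 2 b || inPlane 2 b || ns0.any fun c => ns0.any fun d =>
  same (img c d 2) 2 && same (img c d b) 4
def chkShift : Bool := ns02.any fun c => ns02.any fun d => img c d 1 == 4
def chkHyp : Bool := codes.all fun v => !(hyp.all (orth v)) || v == 0 || v == 1
def chkPerp (a b : ℕ) : Bool := codes.all fun v => !((perp a b).all (orth v)) || (span a b).contains v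
def chkDec (a b u2 u3 : ℕ) : Bool := codes.all fun v =>
  [0, 16, u2, u3, 16 ^^^ u2, 16 ^^^ u3, u2 ^^^ u3, 16 ^^^ u2 ^^^ u3].any fun k =>
    orth (v ^^^ k) 1 && orth (v ^^^ k) a && orth (v ^^^ k) b
def triples (a b u2 u3 : ℕ) : List (ℕ × ℕ × ℕ) :=
  let c1 := ((span a b).map (16 ^^^ ·)).filter fun i => qm i == qm 16
  let c2 := ((span a b).map (u2 ^^^ ·)).filter fun i => qm i == qm u2
  let c3 := ((span a b).map (u3 ^^^ ·)).filter fun i => qm i == qm u3
  (c1.flatMap fun i => c2.flatMap fun j => c3.map fun k => (i, j, k)).filter fun p =>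
    orth p.1 p.2.1 == orth 16 u2 && orth p.1 p.2.2 == orth 16 u3 && orth p.2.1 p.2.2 == orth u2 u3
def reps : List ℕ := codes.filter fun x => orth x 1 && orth x 16
def pairsC : List (ℕ × ℕ) := (reps.flatMap fun a => reps.map fun b => (a, b)).filter fun p =>
  qm p.1 && qm p.2 && !orth p.1 p.2
def pairsS : List (ℕ × ℕ) := (reps.flatMap fun a => reps.map fun b => (a, b)).filter fun p =>
  !qm p.1 && !qm p.2 && orth p.1 p.2 && !(p.1 == 0) && !(p.2 == 0) && !(p.1 == p.2)

theorem chkSing_ok : chkSing = true := by decide +kernel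
theorem chkMove_ok : chkMove = true := by decide +kernel
theorem chkFstC_ok : chkFstC = true := by decide +kernel
theorem chkSndC_ok : chkSndC = true := by decide +kernel
theorem chkFstS_ok : chkFstS = true := by decide +kernel
theorem chkSndS_ok : chkSndS = true := by decide +kernel
theorem chkShift_ok : chkShift = true := by decide +kernel
theorem chkHyp_ok : chkHyp = true := by decide +kernel
theorem chkPerpC_ok : chkPerp 34 70 = true := by decide +kernel
theorem chkPerpS_ok : chkPerp 2 4 = true := by decide +kernel
theorem chkDecC_ok : chkDec 34 70 34 70 = true := by decide +kernel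
theorem chkDecS_ok : chkDec 2 4 32 64 = true := by decide +kernel
theorem triplesC_len : (triples 34 70 34 70).length = 24 := by decide +kernel
theorem triplesS_len : (triples 2 4 32 64).length = 8 := by decide +kernel
theorem pairsC_len : pairsC.length = 336 := by decide +kernel
theorem pairsS_len : pairsS.length = 630 := by decide +kernel

end Cfsg.Agent.LargeExt10.Co
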