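import Cfsg.Agent.LargeExt10.Co.Classes

/-!
# The standard elements are not conjugate to `z`
-/

set_option autoImplicit false

namespace Cfsg.Agent.LargeExt10.Co

open QuadraticMap Cfsg.Agent.Reflections Cfsg.Agent.LargeExtraspecial
open Cfsg.Agent.Forms59.Inv (nmap add_self_vec nmap_apply polar_nmap act_eq_add rk form_nmap nmap_conj)

theorem not_dvd_fixS_s : ¬ 16 ∣ Nat.card sType.fixS := fun h => by
  have := Nat.le_of_dvd Nat.card_pos h
  have := card_fixS_s
  omega

theorem not_dvd_fixS_c : ¬ 16 ∣ Nat.card cType.fixS := fun h => by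
  have h48 : 48 ∣ Nat.card cType.fixS :=
    (by norm_num : Nat.Coprime 3 16).mul_dvd_of_dvd_of_dvd three_dvd_fixS_c h
  have := Nat.le_of_dvd Nat.card_pos h48
  have := card_fixS_c
  omega

variable {G : Type*} [Group G] [Finite G] {z : G} {Q : Subgroup G} {D : Co z Q}

/-- An involution of `C(z)` outside `Q` centralises at least 16 elements of `Q`. -/
theorem Co.sixteen_le (D : Co z Q) {t : G} (hz : Commute t z) (h2 : t * t = 1) (hQ : t ∉ Q) :
    16 ≤ Nat.card (Q ⊓ Subgroup.centralizer ({t} : Set G) : Subgroup G) := by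
  classical
  have hne : D.ρ t ≠ 1 := fun e => hQ ((D.ρ_ker hz).1 e)
  have hU : Nat.card (LinearMap.range (nmap (D.ρ t))) ≤ 16 := by
    rcases rk_cases (D.ρ_mem hz) (D.rho_sq hz (h2 ▸ one_mem Q)) hne with ⟨-, e⟩ | ⟨-, e⟩ <;>
      rw [e] <;> norm_num
  choose l hlQ hl using D.coords.surj
  let Y : Finset V8 := Finset.univ.filter fun v => v ∈ LinearMap.range (nmap (D.ρ t))
  let S : Finset G := (Y ×ˢ (Finset.univ : Finset (ZMod 2))).image fun p => l p.1 * pw z p.2
  have hS : S.card ≤ 32 := by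
    refine Finset.card_image_le.trans ?_
    rw [Finset.card_product, Finset.card_univ, ZMod.card]
    have : Y.card ≤ 16 := by
      refine le_trans (le_of_eq ?_) hU
      rw [Nat.card_eq_fintype_card, Fintype.card_subtype]
    omega
  haveI := Fintype.ofFinite Q
  haveI := Fintype.ofFinite (Q ⊓ Subgroup.centralizer ({t} : Set G) : Subgroup G)
  let f : Q → G := fun x => t * x * t⁻¹ * (x : G)⁻¹
  have hfib : ∀ v ∈ Finset.univ.image f, (Finset.univ.filter fun x => f x = v).card ≤
      Nat.card (Q ⊓ Subgroup.centralizer ({t} : Set G) : Subgroup G) := by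
    intro v hv
    obtain ⟨x0, -, rfl⟩ := Finset.mem_image.1 hv
    rw [Nat.card_eq_fintype_card, ← Finset.card_univ]
    refine Finset.card_le_card_of_surjOn (fun c => (x0 : Q) * ⟨c.1, c.2.1⟩) fun x hx => ?_
    have hx' := (Finset.mem_filter.1 hx).2
    have hcom : (x0 : G)⁻¹ * x ∈ Subgroup.centralizer ({t} : Set G) := by
      rw [Subgroup.mem_centralizer_singleton_iff]
      simp only [f] at hx'
      calc (x0 : G)⁻¹ * x * t = (x0 : G)⁻¹ * (t * x0 * t⁻¹ * (x0 : G)⁻¹)⁻¹ *
            ((t * x0 * t⁻¹ * (x0 : G)⁻¹) * x) * t := by group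
        _ = (x0 : G)⁻¹ * (t * x0 * t⁻¹ * (x0 : G)⁻¹)⁻¹ *
            ((t * x * t⁻¹ * (x : G)⁻¹) * x) * t := by rw [hx']
        _ = t * ((x0 : G)⁻¹ * x) := by group
    exact ⟨⟨(x0 : G)⁻¹ * x, Subgroup.mem_inf.2 ⟨Q.mul_mem (Q.inv_mem x0.2) x.2, hcom⟩⟩,
      Finset.mem_coe.2 (Finset.mem_univ _), Subtype.ext (mul_inv_cancel_left _ _)⟩
  have h1 := Finset.card_le_mul_card_image (f := f) Finset.univ _ hfib
  rw [Finset.card_univ, ← Nat.card_eq_fintype_card, D.card] at h1
  have h3 : (Finset.univ.image f).card ≤ 32 := by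
    refine le_trans (Finset.card_le_card fun v hv => ?_) hS
    obtain ⟨x, -, rfl⟩ := Finset.mem_image.1 hv
    have hfQ : f x ∈ Q := D.setup.comm_mem hz x.2
    have hcf : D.c (f x) = nmap (D.ρ t) (D.c x) := by
      rw [show f x = t * x * t⁻¹ * (x : G)⁻¹ from rfl,
        D.coords.mul _ (D.setup.conj_mem hz x.2) _ (inv_mem x.2), D.coords.c_inv x.2,
        ← D.ρ_act hz x.2, ← nmap_apply]
    have hmem := (D.coords.eq_iff (hlQ (D.c (f x))) hfQ).1 (hl _)
    rcases D.setup.zpowers_cases hmem with e | e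
    · exact Finset.mem_image.2 ⟨(D.c (f x), 0), Finset.mem_product.2
        ⟨Finset.mem_filter.2 ⟨Finset.mem_univ _, hcf ▸ ⟨_, rfl⟩⟩, Finset.mem_univ _⟩,
        by rw [pw_zero, mul_one]; exact inv_mul_eq_one.1 e⟩
    · exact Finset.mem_image.2 ⟨(D.c (f x), 1), Finset.mem_product.2
        ⟨Finset.mem_filter.2 ⟨Finset.mem_univ _, hcf ▸ ⟨_, rfl⟩⟩, Finset.mem_univ _⟩,
        by rw [pw_one]; exact (inv_mul_eq_iff_eq_mul.1 e).symm⟩
  nlinarith

namespace Frame

variable {F : Frame D}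

/-- An element of `C_R(z)` outside `Q` centralises everything it fixes modulo `z`. -/
theorem commute_of_fixed {r x : G} (hr : r ∈ fixIn F.R z) (hrQ : r ∉ Q) (hx : x ∈ Q)
    (h : nmap (D.ρ r) (D.c x) = 0) : Commute r x := by
  have hS := sig_of_mem hr
  obtain ⟨u, hu, hau⟩ : ∃ u, B8 u v0 = 0 ∧ B8 (F.av r) u = 1 := by
    by_contra hc
    push Not at hc
    have h0 : Eqv (F.av r) 0 := eqv_zero_of_perp fun u hu => (bit _).resolve_right (hc u hu)
    exact hrQ ((D.ρ_ker hS.cz).1 (eq_one_of_fix_hyp fun v hv => by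
      rw [act_eq_add, hS.nmap_eq hv, h0.polar_eq hv, B8, polar_zero_left, zero_smul, add_zero]))
  have hp : B8 (D.c x) v0 = 0 := by
    rw [show v0 = nmap (D.ρ r) u by rw [hS.nmap_eq hu, hau, one_smul], B8, polar_nmap hS.inv, h,
      polar_zero_left]
  have h1 := comm_RQ hr hx ((F.commute_s_iff hx).2 hp)
  have h2 := hS.nmap_eq hp
  rw [h] at h2
  have h3 : B8 (F.av r) (D.c x) = 0 := by
    rcases bit (B8 (F.av r) (D.c x)) with e | e
    · exact e
    · rw [e, one_smul] at h2; exact absurd h2.symm v0_ne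
  rw [h3, F.el_zero, mul_inv_eq_one, mul_inv_eq_iff_eq_mul] at h1
  exact h1

namespace Std

variable {P : Pty}

/-- Elements of `Q` commuting with a standard element. -/
theorem perp_of_commute (T : Std F P) {x : G} (hx : x ∈ Q) (h : Commute x (T.r * T.x)) :
    B8 (D.c x) v0 = 0 ∧ B8 (D.c x) P.va = 0 ∧ B8 (D.c x) P.vb = 0 := by
  have hS := sig_of_mem T.hr
  have hzero : nmap (D.ρ T.r) (D.c x) = 0 := by
    rw [← T.rho, nmap_apply, D.ρ_act T.cz hx, h.symm.eq, mul_inv_cancel_right, add_self_vec]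
  obtain ⟨u, hu0, hua, -⟩ := P.exists_dual 1 0
  have h0 : B8 (D.c x) v0 = 0 := by
    have hnu : nmap (D.ρ T.r) u = v0 := by rw [hS.nmap_eq hu0, T.ha.polar_eq hu0, hua, one_smul]
    rw [← hnu, B8, polar_nmap hS.inv, hzero, polar_zero_left]
  have hA : B8 (F.av T.r) (D.c x) = 0 := by
    rw [av, B8, polar_comm, polar_nmap hS.inv, hzero, polar_zero_left]
  have hA' : B8 (D.c x) P.va = 0 := by
    rw [B8, polar_comm]; exact (T.ha.polar_eq h0).symm.trans hA
  refine ⟨h0, hA', ?_⟩
  have hr1 := comm_RQ T.hr hx ((F.commute_s_iff hx).2 h0)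
  rw [hA, F.el_zero, mul_inv_eq_one, mul_inv_eq_iff_eq_mul] at hr1
  have hxx : Commute x T.x := by
    have := (show Commute T.r x from hr1).symm.inv_right.mul_right h
    rwa [inv_mul_cancel_left] at this
  have h1 := (D.commute_iff hx T.hx).1 hxx
  rw [B8, polar_comm] at h1 ⊢
  exact (T.hb.polar_eq h0).symm.trans h1

/-- Conversely such vectors lift to elements commuting with the standard element. -/
theorem exists_commute (T : Std F P) {v : V8} (h0 : B8 v v0 = 0) (h1 : B8 v P.va = 0)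
    (h2 : B8 v P.vb = 0) : ∃ x ∈ Q, D.c x = v ∧ Commute x (T.r * T.x) := by
  obtain ⟨x, hx, rfl⟩ := D.coords.surj v
  refine ⟨x, hx, rfl, Commute.mul_right ?_ ?_⟩
  · have hxs := (F.commute_s_iff hx).2 h0
    have e := comm_RQ T.hr hx hxs
    rw [T.ha.polar_eq h0, show B8 P.va (D.c x) = 0 from (polar_comm _ _ _).trans h1, F.el_zero,
      mul_inv_eq_one, mul_inv_eq_iff_eq_mul] at e
    exact e.symm
  · refine (D.commute_iff hx T.hx).2 ?_
    rw [B8, polar_comm]
    exact (T.hb.polar_eq h0).trans ((polar_comm _ _ _).trans h2)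

/-- A standard element is not conjugate to `z`. -/
theorem not_isConj (T : Std F P) (hfix : ¬ 16 ∣ Nat.card P.fixS) : ¬ IsConj z (T.r * T.x) := by
  classical
  intro hconj
  obtain ⟨g, hg⟩ := isConj_iff.1 hconj
  set t := T.r * T.x with ht
  have h2t : t * t = 1 := T.sq
  have hS := sig_of_mem T.hr
  have htz : Commute t z := T.cz
  set U := Q.map (MulAut.conj g).toMonoidHom with hU
  have SU : Setup U t := hg ▸ D.setup.conj g
  have hUcard : 32 ≤ Nat.card U := by
    rw [hU, Subgroup.card_map_of_injective (MulAut.conj g).injective, D.card]; norm_num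
  have htQ : t ∉ Q := T.not_mem
  -- a vector fixed modulo `z` which does not commute
  obtain ⟨v, hv0, hva, hvb⟩ := P.exists_dual 0 1
  obtain ⟨x1, hx1, rfl⟩ := D.coords.surj v
  have hn1 : nmap (D.ρ t) (D.c x1) = 0 := by
    rw [show D.ρ t = D.ρ T.r from T.rho, hS.nmap_eq hv0, T.ha.polar_eq hv0, hva, zero_smul]
  have hnc : ¬ Commute x1 t := fun h => by
    have := (T.perp_of_commute hx1 h).2.2
    rw [B8, polar_comm] at this
    exact zero_ne_one (this.symm.trans hvb)
  have hz_not : z ∉ U := fun hm => by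
    have e : g⁻¹ * t * g⁻¹⁻¹ = z := by rw [← hg]; group
    have h1 := (SU.pair hUcard (g := g⁻¹) (by rw [e]; exact hm)
      (by rw [e]; exact fun e' => htQ (e' ▸ D.setup.z_mem))).z_mem_right
    rw [hU, Subgroup.map_map] at h1
    obtain ⟨q, hq, hqe⟩ := h1
    refine htQ ?_
    have : q = t := by rw [← hqe]; simp [mul_assoc]
    exact this ▸ hq
  have hI : ∀ e ∈ Q, e ∈ U → e = 1 := by
    intro e heQ heU
    by_contra he1
    have het : Commute e t := (SU.z_commute heU).symm
    have he2 : e * e = 1 := by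
      rcases D.setup.zpowers_cases (D.setup.sq_mem heQ) with h | h
      · exact h
      · rcases SU.zpowers_cases (SU.sq_mem heU) with h' | h'
        · exact h'
        · exact absurd (h'.symm.trans h ▸ D.setup.z_mem) htQ
    have hez : e ≠ z := fun h => hz_not (h ▸ heU)
    obtain ⟨k, hk, hke⟩ := F.exists_to_s heQ he2 he1 hez
    set t' := k * t * k⁻¹ with ht'
    have hz' : Commute t' z := (hk.mul_left htz).mul_left hk.inv_left
    have hg' : (k * g) * z * (k * g)⁻¹ = t' := by rw [ht', ← hg]; group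
    set U' := Q.map (MulAut.conj (k * g)).toMonoidHom with hU'
    have SU' : Setup U' t' := hg' ▸ D.setup.conj (k * g)
    have hsU : F.s ∈ U' := by
      obtain ⟨q, hq, hqe⟩ := heU
      refine ⟨q, hq, ?_⟩
      rw [← hke, ← hqe]; simp [mul_assoc]
    have hU'card : 32 ≤ Nat.card U' := by
      rw [hU', Subgroup.card_map_of_injective (MulAut.conj (k * g)).injective, D.card]; norm_num
    obtain ⟨j, hj, hR⟩ := F.pair.conj
    have hts : t' ≠ F.s := fun h => htQ (by
      have h1 : t' ∈ Q := h ▸ F.pair.mem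
      have := D.setup.conj_mem hk.inv_left h1
      rwa [ht', show k⁻¹ * (k * t * k⁻¹) * k⁻¹⁻¹ = t by group] at this)
    have e' : j * (k * g)⁻¹ * t' * (j * (k * g)⁻¹)⁻¹ = F.s := by rw [← hg', ← hj]; group
    have h1 := (SU'.pair hU'card (g := j * (k * g)⁻¹) (by rw [e']; exact hsU)
      (by rw [e']; exact hts.symm)).z_mem_right
    rw [hU', Subgroup.map_map] at h1
    have htR : t' ∈ F.R := by
      obtain ⟨q, hq, hqe⟩ := h1
      rw [hR]
      exact ⟨q, hq, by rw [← hqe]; simp [mul_assoc]⟩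
    have ht'Q : t' ∉ Q := fun h => htQ (by
      have := D.setup.conj_mem hk.inv_left h
      rwa [ht', show k⁻¹ * (k * t * k⁻¹) * k⁻¹⁻¹ = t by group] at this)
    have hxk : k * x1 * k⁻¹ ∈ Q := D.setup.conj_mem hk hx1
    have hρ : D.ρ t' = D.ρ k * D.ρ t * (D.ρ k)⁻¹ := by
      rw [ht', D.ρ_mul (hk.mul_left htz) hk.inv_left, D.ρ_mul hk htz, D.rho_inv hk]
    have hc := commute_of_fixed (mem_fixIn.2 ⟨htR, hz'⟩) ht'Q hxk (by
      rw [← D.ρ_act hk hx1, hρ, nmap_conj, hn1, act_zero])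
    have h3 := (Commute.conj_iff k⁻¹).2 hc
    rw [inv_inv, ht', show k⁻¹ * (k * t * k⁻¹) * k = t by group,
      show k⁻¹ * (k * x1 * k⁻¹) * k = x1 by group] at h3
    exact hnc h3.symm
  have hUnorm : ∀ x, Commute x t → ∀ w ∈ U, x * w * x⁻¹ ∈ U := fun x hx w hw => SU.conj_mem hx hw
  -- the group `W2`
  set W2 := U ⊓ Subgroup.centralizer ({z} : Set G) with hW2
  have hW2z : ∀ w ∈ W2, Commute w z := fun w hw => Subgroup.mem_centralizer_singleton_iff.1 hw.2
  let φ : W2 →* O8 :=
    { toFun := fun w => D.ρ w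
      map_one' := D.rho_one
      map_mul' := fun a b => D.ρ_mul (hW2z a a.2) (hW2z b b.2) }
  have hφ : Function.Injective φ := by
    rw [injective_iff_map_eq_one]
    exact fun w hw => Subtype.ext (hI w ((D.ρ_ker (hW2z w w.2)).1 hw) w.2.1)
  have hφS : φ.range ≤ P.fixS := by
    rintro _ ⟨w, rfl⟩ v h0 h1 h2
    obtain ⟨x, hx, rfl, hxt⟩ := T.exists_commute h0 h1 h2
    have hwz := hW2z w w.2
    have hm1 : (w : G) * x * (w : G)⁻¹ * x⁻¹ ∈ Q := D.setup.comm_mem hwz hx
    have hm2 : (w : G) * x * (w : G)⁻¹ * x⁻¹ ∈ U := by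
      rw [show (w : G) * x * (w : G)⁻¹ * x⁻¹ = (w : G) * (x * (w : G)⁻¹ * x⁻¹) by group]
      exact mul_mem w.2.1 (hUnorm x hxt _ (inv_mem w.2.1))
    show act (D.ρ w) (D.c x) = D.c x
    rw [D.ρ_act hwz hx, mul_inv_eq_one.1 (hI _ hm1 hm2)]
  -- its order is a power of two, at least 16
  have hp : IsPGroup 2 W2 := SU.extraspecial.1.1.to_le inf_le_left
  obtain ⟨n, hn⟩ := hp.exists_card_eq
  have hge : 16 ≤ Nat.card W2 := by
    set z' := g⁻¹ * z * g with hz'
    have hc' : Commute z' z := by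
      have h := (Commute.conj_iff g⁻¹).2 (show Commute z t from htz.symm)
      rw [inv_inv] at h
      rw [show g⁻¹ * t * g = z by rw [← hg]; group] at h
      exact h
    have hnQ : z' ∉ Q := fun h => hz_not ⟨z', h, by simp [hz', mul_assoc]⟩
    have h2' : z' * z' = 1 := by
      rw [hz', show g⁻¹ * z * g * (g⁻¹ * z * g) = g⁻¹ * (z * z) * g by group, F.zz]; group
    have hW2e : W2 = (Q ⊓ Subgroup.centralizer ({z'} : Set G)).map (MulAut.conj g).toMonoidHom := by
      ext w
      rw [Subgroup.mem_map_equiv, MulAut.conj_symm_apply, hW2, Subgroup.mem_inf, Subgroup.mem_inf,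
        hU, Subgroup.mem_map_equiv, MulAut.conj_symm_apply, Subgroup.mem_centralizer_singleton_iff,
        Subgroup.mem_centralizer_singleton_iff]
      refine and_congr_right fun _ => ?_
      rw [hz']
      constructor
      · intro h
        calc g⁻¹ * w * g * (g⁻¹ * z * g) = g⁻¹ * (w * z) * g := by group
          _ = g⁻¹ * (z * w) * g := by rw [h]
          _ = g⁻¹ * z * g * (g⁻¹ * w * g) := by group
      · intro h
        calc w * z = g * (g⁻¹ * w * g * (g⁻¹ * z * g)) * g⁻¹ := by group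
          _ = g * (g⁻¹ * z * g * (g⁻¹ * w * g)) * g⁻¹ := by rw [h]
          _ = z * w := by group
    rw [hW2e, Subgroup.card_map_of_injective (MulAut.conj g).injective]
    exact D.sixteen_le hc' h2' hnQ
  refine hfix ?_
  have hdiv : Nat.card W2 ∣ Nat.card P.fixS := by
    rw [Nat.card_congr (MonoidHom.ofInjective hφ).toEquiv]
    exact Subgroup.card_dvd_of_le hφS
  have : 4 ≤ n := by
    by_contra h
    have : 2 ^ n ≤ 2 ^ 3 := Nat.pow_le_pow_right two_pos (by omega)
    omega
  exact (show 16 ∣ Nat.card W2 from hn ▸ (pow_dvd_pow 2 this : 2 ^ 4 ∣ 2 ^ n)).trans hdiv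

end Std

end Frame

end Cfsg.Agent.LargeExt10.Co
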