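import Cfsg.Agent.LargeExt10.Co.Classes

/-!
# Involutions of rank four in a group of Conway type

After conjugation such an involution `t` fixes `s` and acts on `v0⊥ ⧸ v0` like the transvection pair
`N0`; then `t` or `y t y⁻¹` has rank two and totally singular image at the centre `s`.
-/

set_option autoImplicit false

namespace Cfsg.Agent.LargeExt10.Co

open QuadraticMap Cfsg.Agent.Reflections Cfsg.Agent.LargeExtraspecial
open Cfsg.Agent.Forms59.Inv (nmap add_self_vec nmap_apply polar_nmap act_eq_add rk form_nmap nmap_conj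
  range_polar two_rk_le rk_conj nmap_nmap IsAltInv exists_adapted_orth)

/-- A rank four involution has a moved singular vector `v` such that it moves `v⊥` into singular
vectors. -/
theorem exists_special {γ : O8} (h2 : γ * γ = 1) (hr : rk γ = 4) :
    ∃ w, nmap γ w ≠ 0 ∧ Q8 (nmap γ w) = 0 ∧
      ∀ v, B8 v (nmap γ w) = 0 → Q8 (nmap γ v) = 0 := by
  by_cases ha : IsAltInv γ
  · obtain ⟨p, hp⟩ : ∃ p, nmap γ p ≠ 0 := by
      by_contra h
      push Not at h
      rw [rk, LinearMap.range_eq_bot.2 (LinearMap.ext h), finrank_bot] at hr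
      exact absurd hr (by norm_num)
    exact ⟨p, hp, ha p, fun v _ => ha v⟩
  obtain ⟨A⟩ := exists_adapted_orth (Q := Q8) hQ8 h2 ha
  set X := ∑ i, A.x i with hX
  have hgX : ∀ j, polar (⇑Q8) X (nmap γ (A.x j)) = 1 := fun j => by
    show QuadraticMap.polarBilin Q8 X (nmap γ (A.x j)) = 1
    rw [hX, map_sum, LinearMap.sum_apply, Finset.sum_eq_single j]
    · rw [QuadraticMap.polarBilin_apply_apply, A.gram, Matrix.one_apply_eq]
    · intro i _ hi
      rw [QuadraticMap.polarBilin_apply_apply, A.gram, Matrix.one_apply_ne hi]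
    · simp
  have key : ∀ y, Q8 (nmap γ y) = B8 X (nmap γ y) := by
    have hrange : ∀ n ∈ Submodule.span (ZMod 2) (Set.range fun j => nmap γ (A.x j)),
        n ∈ LinearMap.range (nmap γ) ∧ Q8 n = B8 X n := by
      intro n hn
      induction hn using Submodule.span_induction with
      | mem n hn =>
        obtain ⟨j, rfl⟩ := hn
        refine ⟨⟨_, rfl⟩, ?_⟩
        rw [form_nmap, A.gram, Matrix.one_apply_eq, B8, hgX]
      | zero => exact ⟨zero_mem _, by rw [B8, polar_zero_right, QuadraticMap.map_zero]⟩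
      | add m n _ _ ihm ihn =>
        refine ⟨add_mem ihm.1 ihn.1, ?_⟩
        rw [QuadraticMap.map_add ⇑Q8, range_polar h2 ihm.1 ihn.1, add_zero, ihm.2, ihn.2, B8, B8, B8,
          polar_add_right]
      | smul c n _ ih =>
        rcases bit c with e | e <;> rw [e]
        · rw [zero_smul]; exact ⟨zero_mem _, by rw [B8, polar_zero_right, QuadraticMap.map_zero]⟩
        · rw [one_smul]; exact ih
    exact fun y => (hrange _ (A.spans y)).2
  refine ⟨X, fun e => ?_, ?_, fun v hv => ?_⟩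
  · have h0 : (0 : ℕ) < rk γ := by omega
    have := hgX ⟨0, h0⟩
    rw [polar_nmap h2, e, polar_zero_left] at this
    exact zero_ne_one this
  · rw [key, B8]
    show QuadraticMap.polarBilin Q8 X (nmap γ X) = 0
    conv_lhs => arg 2; rw [hX, map_sum]
    rw [map_sum]
    simp only [QuadraticMap.polarBilin_apply_apply, hgX, Finset.sum_const, Finset.card_univ, Fintype.card_fin,
      nsmul_eq_mul, mul_one]
    rw [hr]
    decide
  · rw [key, B8, polar_comm, ← polar_nmap h2]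
    exact hv

variable {G : Type*} [Group G] [Finite G] {z : G} {Q : Subgroup G} {D : Co z Q}

namespace Frame

variable (F : Frame D)

/-- Normal form of an involution of rank four. -/
structure Four (t : G) : Prop where
  cz : Commute t z
  cs : Commute t F.s
  sq : t * t = 1
  moved : ∃ w, B8 w v0 = 0 ∧ nmap (D.ρ t) w = v0
  cong : ∀ v, B8 v v0 = 0 → Eqv (nmap (D.ρ t) v) (N0 v)

variable {F}

/-- The hyperplane moves onto three dimensions. -/
theorem exists_four {t : G} (hz : Commute t z) (h2 : t * t = 1) (hQ : t ∉ Q) (hr : rk (D.ρ t) = 4) :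
    ∃ t', IsConj t t' ∧ F.Four t' := by
  classical
  obtain ⟨w0, hw0, hq0, hTS⟩ := exists_special (D.rho_sq hz (h2 ▸ one_mem Q)) hr
  obtain ⟨g, hg, hz1, hs1, h21, hQ1, hgu, hρ1⟩ := F.exists_at_v0 hz h2 hQ hw0 hq0
  set t1 := g * t * g⁻¹
  set γ := D.ρ t1 with hγ
  have hsq : γ * γ = 1 := D.rho_sq hz1 (h21 ▸ one_mem Q)
  have hr1 : rk γ = 4 := by rw [hρ1, rk_conj, hr]
  set w := act (D.ρ g) w0 with hwdef
  have hw : nmap γ w = v0 := by rw [hρ1, hwdef, nmap_conj, hgu]
  have hTS1 : ∀ v, B8 v v0 = 0 → Q8 (nmap γ v) = 0 := fun v hv => by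
    have e : v = act (D.ρ g) (act (D.ρ g)⁻¹ v) := (act_act_inv _ _).symm
    rw [e, hρ1, nmap_conj, act_Q]
    refine hTS _ ?_
    rw [B8, ← act_polar (D.ρ g), ← e, hgu]
    exact hv
  have hwv : B8 w v0 = 0 := by rw [← hw, B8, ← form_nmap, hw]; exact Q_v0
  have hfix := F.rho_fix hz1 hs1
  have hnp : ∀ v, B8 (nmap γ v) v0 = 0 := fun v => by
    rw [B8, ← polar_nmap hsq, nmap_apply, hγ, hfix, add_self_vec, polar_zero_right]
  have hr16 : Nat.card (LinearMap.range (nmap γ)) = 16 := by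
    rw [Module.natCard_eq_pow_finrank (K := ZMod 2), Nat.card_zmod]
    exact (congrArg (2 ^ ·) hr1).trans rfl
  let H : Finset V8 := (Finset.univ.filter fun v => B8 v v0 = 0).image (nmap γ)
  have hHmem : ∀ v, B8 v v0 = 0 → nmap γ v ∈ H := fun v hv =>
    Finset.mem_image.2 ⟨v, Finset.mem_filter.2 ⟨Finset.mem_univ _, hv⟩, rfl⟩
  have hadd : ∀ {m n}, m ∈ H → n ∈ H → m + n ∈ H := by
    intro m n hm hn
    obtain ⟨u, hu, rfl⟩ := Finset.mem_image.1 hm
    obtain ⟨v, hv, rfl⟩ := Finset.mem_image.1 hn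
    rw [← map_add]
    exact hHmem _ (by
      rw [B8, polar_add_left, show polar (⇑Q8) u v0 = 0 from (Finset.mem_filter.1 hu).2,
        show polar (⇑Q8) v v0 = 0 from (Finset.mem_filter.1 hv).2, add_zero])
  have hcover : ∀ u, nmap γ u ∈ H ∨ nmap γ u + nmap γ yy ∈ H := fun u => by
    rcases bit (B8 u v0) with e | e
    · exact Or.inl (hHmem u e)
    · right
      rw [← map_add]
      exact hHmem _ (by
        rw [B8, polar_add_left, show polar (⇑Q8) u v0 = 1 from e,
          show polar (⇑Q8) yy v0 = 1 from B_yy]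
        rfl)
  have hall : 8 ≤ H.card := by
    let A : Finset V8 := H ∪ H.image (· + nmap γ yy)
    have hA : Finset.univ.filter (fun n => n ∈ LinearMap.range (nmap γ)) ⊆ A := fun n hn => by
      obtain ⟨u, rfl⟩ := (Finset.mem_filter.1 hn).2
      rcases hcover u with e | e
      · exact Finset.mem_union_left _ e
      · exact Finset.mem_union_right _ (Finset.mem_image.2 ⟨_, e, by rw [add_assoc, add_self_vec, add_zero]⟩)
    have h1 := Finset.card_le_card hA
    have h2 : A.card ≤ H.card + H.card :=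
      (Finset.card_union_le _ _).trans (Nat.add_le_add_left Finset.card_image_le _)
    have h3 : (Finset.univ.filter (fun n => n ∈ LinearMap.range (nmap γ))).card = 16 := by
      rw [← hr16, Nat.card_eq_fintype_card, Fintype.card_subtype]
    omega
  have hv0H : v0 ∈ H := hw ▸ hHmem w hwv
  obtain ⟨p, hp, hp0⟩ : ∃ p ∈ H, ¬ Eqv p 0 := by
    by_contra h
    push Not at h
    have : H ⊆ {0, v0} := fun n hn => by
      rcases h n hn with e | e
      · rw [e]; simp
      · rw [e, zero_add]; simp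
    have := (Finset.card_le_card this).trans (Finset.card_le_two)
    omega
  obtain ⟨q, hq, hq0, hqp⟩ : ∃ q ∈ H, ¬ Eqv q 0 ∧ ¬ Eqv q p := by
    by_contra h
    push Not at h
    have : H ⊆ ({0, v0} : Finset V8) ∪ {p, p + v0} := fun n hn => by
      by_cases e : Eqv n 0
      · refine Finset.mem_union_left _ ?_
        rcases e with e | e
        · rw [e]; simp
        · rw [e, zero_add]; simp
      · refine Finset.mem_union_right _ ?_
        rcases h n hn e with e' | e' <;> rw [e'] <;> simp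
    have := (Finset.card_le_card this).trans
      ((Finset.card_union_le _ _).trans (Nat.add_le_add Finset.card_le_two Finset.card_le_two))
    omega
  obtain ⟨u2, hu2, rfl⟩ := Finset.mem_image.1 hp
  obtain ⟨u4, hu4, rfl⟩ := Finset.mem_image.1 hq
  have hu20 := (Finset.mem_filter.1 hu2).2
  have hu40 := (Finset.mem_filter.1 hu4).2
  obtain ⟨η, hη, hηfix, hηa, hηb⟩ := exists_to_pairS (hTS1 u2 hu20) (hTS1 u4 hu40) (hnp _) (hnp _)
    (range_polar hsq ⟨_, rfl⟩ ⟨_, rfl⟩) hp0 hq0 hqp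
  obtain ⟨k, hkz, hks, rfl⟩ := F.exists_lift hη hηfix
  set t2 := k * t1 * k⁻¹ with ht2
  have hz2 : Commute t2 z := (hkz.mul_left hz1).mul_left hkz.inv_left
  have hs2 : Commute t2 F.s := (hks.mul_left hs1).mul_left hks.inv_left
  have h22 : t2 * t2 = 1 := by
    rw [ht2, show k * t1 * k⁻¹ * (k * t1 * k⁻¹) = k * (t1 * t1) * k⁻¹ by group, h21]; group
  have hρ2 : D.ρ t2 = D.ρ k * γ * (D.ρ k)⁻¹ := by
    rw [ht2, D.ρ_mul (hkz.mul_left hz1) hkz.inv_left, D.ρ_mul hkz hz1, D.rho_inv hkz]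
  set δ := D.ρ t2 with hδ
  have hn : ∀ u, nmap δ (act (D.ρ k) u) = act (D.ρ k) (nmap γ u) := fun u => by
    rw [hρ2, nmap_conj]
  have hsq2 : δ * δ = 1 := D.rho_sq hz2 (h22 ▸ one_mem Q)
  have hfix2 := F.rho_fix hz2 hs2
  have hcon : IsConj t t2 := (isConj_of_conj : IsConj t t1).trans isConj_of_conj
  have hwm : nmap δ (act (D.ρ k) w) = v0 := by rw [hn, hw, hηfix]
  have hwmp : B8 (act (D.ρ k) w) v0 = 0 := conj_perp hηfix hwv
  refine ⟨t2, hcon, hz2, hs2, h22, ⟨_, hwmp, hwm⟩, fun v hv => ?_⟩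
  -- the image of the hyperplane
  have hnp2 : ∀ u, B8 (nmap δ u) v0 = 0 := fun u => by
    rw [B8, ← polar_nmap hsq2, nmap_apply, hδ, hfix2, add_self_vec, polar_zero_right]
  let U2 := act (D.ρ k) u2
  let U4 := act (D.ρ k) u4
  have e2 : Eqv (nmap δ U2) p2 := by rw [hn]; exact hηa
  have e4 : Eqv (nmap δ U4) p4 := by rw [hn]; exact hηb
  have hU2 : B8 U2 v0 = 0 := conj_perp hηfix hu20
  have hU4 : B8 U4 v0 = 0 := conj_perp hηfix hu40
  have hTS2 : ∀ u, B8 u v0 = 0 → Q8 (nmap δ u) = 0 := fun u hu => by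
    have e : u = act (D.ρ k) (act (D.ρ k)⁻¹ u) := (act_act_inv _ _).symm
    rw [e, hn, act_Q]
    refine hTS1 _ ?_
    rw [B8, ← act_polar (D.ρ k), ← e, hηfix]
    exact hu
  let H2 : Finset V8 := (Finset.univ.filter fun u => B8 u v0 = 0).image (nmap δ)
  let A8 : Finset V8 := ((span 2 4).map vc).toFinset
  have hA8 : A8.card = 8 :=
    (List.toFinset_card_of_nodup ((List.nodup_map_iff_inj_on
      (by decide +kernel : (span 2 4).Nodup)).2
      fun x hx y hy e => vc_inj (sType.span_lt hx) (sType.span_lt hy) e)).trans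
      (by rw [List.length_map]; rfl)
  have hH2add : ∀ {m n}, m ∈ H2 → n ∈ H2 → m + n ∈ H2 := by
    intro m n hm hn'
    obtain ⟨a, ha, rfl⟩ := Finset.mem_image.1 hm
    obtain ⟨b, hb, rfl⟩ := Finset.mem_image.1 hn'
    rw [← map_add]
    exact Finset.mem_image.2 ⟨_, Finset.mem_filter.2 ⟨Finset.mem_univ _, by
      rw [B8, polar_add_left, show polar (⇑Q8) a v0 = 0 from (Finset.mem_filter.1 ha).2,
        show polar (⇑Q8) b v0 = 0 from (Finset.mem_filter.1 hb).2, add_zero]⟩, rfl⟩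
  have hmem2 : ∀ u, B8 u v0 = 0 → nmap δ u ∈ H2 := fun u hu =>
    Finset.mem_image.2 ⟨u, Finset.mem_filter.2 ⟨Finset.mem_univ _, hu⟩, rfl⟩
  have h0H : (0 : V8) ∈ H2 := by
    rw [show (0 : V8) = nmap δ 0 from (map_zero _).symm]
    exact hmem2 0 (by rw [B8, polar_zero_left])
  have hv0H2 : v0 ∈ H2 := hwm ▸ hmem2 _ hwmp
  have h2H : p2 ∈ H2 := by
    rcases e2.symm with e | e <;> rw [e]
    exacts [hmem2 U2 hU2, hH2add (hmem2 U2 hU2) hv0H2]
  have h4H : p4 ∈ H2 := by
    rcases e4.symm with e | e <;> rw [e]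
    exacts [hmem2 U4 hU4, hH2add (hmem2 U4 hU4) hv0H2]
  have hAH : A8 ⊆ H2 := fun n hn' => by
    simp only [A8, span, List.map_cons, List.map_nil, List.mem_toFinset, List.mem_cons, List.not_mem_nil,
      or_false] at hn'
    rcases hn' with e | e | e | e | e | e | e | e <;> rw [e]
    · rw [vc_zero]; exact h0H
    · exact hv0H2
    · exact h2H
    · rw [vc_xor]; exact hH2add h2H hv0H2
    · exact h4H
    · rw [vc_xor]; exact hH2add h4H hv0H2
    · rw [vc_xor]; exact hH2add h2H h4H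
    · rw [vc_xor, vc_xor]; exact hH2add (hH2add h2H h4H) hv0H2
  -- the hyperplane image is not everything
  have hspan : nmap δ v ∈ A8 := by
    by_contra hnv
    have hbig : 16 ≤ H2.card := by
      have hdis : Disjoint A8 (A8.image (· + nmap δ v)) := by
        rw [Finset.disjoint_left]
        intro a ha hb
        obtain ⟨b, hb', e⟩ := Finset.mem_image.1 hb
        refine hnv ?_
        obtain ⟨i, hi, rfl⟩ := List.mem_map.1 (List.mem_toFinset.1 ha)
        obtain ⟨j, hj, rfl⟩ := List.mem_map.1 (List.mem_toFinset.1 hb')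
        have e' : nmap δ v = vc (i ^^^ j) := by
          rw [vc_xor, ← e, add_comm, ← add_assoc, add_self_vec, zero_add]
        have hcl : ∀ i ∈ span 2 4, ∀ j ∈ span 2 4, (i ^^^ j) ∈ span 2 4 := by decide +kernel
        rw [e']
        exact List.mem_toFinset.2 (List.mem_map.2 ⟨_, hcl i hi j hj, rfl⟩)
      have hsub : A8 ∪ A8.image (· + nmap δ v) ⊆ H2 := Finset.union_subset hAH fun n hn' => by
        obtain ⟨b, hb, rfl⟩ := Finset.mem_image.1 hn'
        exact hH2add (hAH hb) (hmem2 v hv)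
      have := Finset.card_le_card hsub
      rw [Finset.card_union_of_disjoint hdis, Finset.card_image_of_injective _ (add_left_injective _),
        hA8] at this
      omega
    have hall2 : H2 = Finset.univ.filter (fun n => n ∈ LinearMap.range (nmap δ)) := by
      refine Finset.eq_of_subset_of_card_le (fun n hn' => ?_) ?_
      · obtain ⟨u, -, rfl⟩ := Finset.mem_image.1 hn'
        exact Finset.mem_filter.2 ⟨Finset.mem_univ _, ⟨u, rfl⟩⟩
      · rw [← Fintype.card_subtype, ← Nat.card_eq_fintype_card]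
        refine le_of_eq_of_le ?_ hbig
        have : rk δ = 4 := by rw [hρ2, rk_conj, hr1]
        rw [Module.natCard_eq_pow_finrank (K := ZMod 2), Nat.card_zmod]
        exact (congrArg (2 ^ ·) this).trans rfl
    refine v0_ne (hQ8.1 v0 fun x => ?_)
    show polar (⇑Q8) v0 x = 0
    rw [← hwm, ← polar_nmap hsq2]
    have hx : nmap δ x ∈ H2 := hall2 ▸ Finset.mem_filter.2 ⟨Finset.mem_univ _, ⟨x, rfl⟩⟩
    obtain ⟨u, hu, e⟩ := Finset.mem_image.1 hx
    rw [← e, polar_nmap hsq2, hwm, polar_comm]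
    exact (Finset.mem_filter.1 hu).2
  -- its coefficients
  have hform : ∀ u, B8 u v0 = 0 → ∃ α β : ZMod 2, nmap δ u ∈ A8 →
      Eqv (nmap δ u) (α • p2 + β • p4) ∧ α = B8 (vc 32) (nmap δ u) ∧ β = B8 (vc 64) (nmap δ u) := by
    intro u _
    refine ⟨B8 (vc 32) (nmap δ u), B8 (vc 64) (nmap δ u), fun hu' => ⟨?_, rfl, rfl⟩⟩
    obtain ⟨i, hi, e⟩ := List.mem_map.1 (List.mem_toFinset.1 hu')
    rw [← e]
    have key : ∀ i ∈ span 2 4,
        same i ((if orth 32 i then 0 else 2) ^^^ (if orth 64 i then 0 else 4)) = true := by decide +kernel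
    have hlt : i < 256 := sType.span_lt hi
    have := vc_same (key i hi)
    rw [vc_xor] at this
    rw [B_vc (by norm_num) hlt, B_vc (by norm_num) hlt]
    revert this
    cases orth 32 i <;> cases orth 64 i <;> simp [vc_zero]
  obtain ⟨α, β, hαβ⟩ := hform v hv
  obtain ⟨hev, hα, hβ⟩ := hαβ hspan
  have hmemA : ∀ u, B8 u v0 = 0 → nmap δ u ∈ A8 → Eqv (nmap δ u)
      (B8 (vc 32) (nmap δ u) • p2 + B8 (vc 64) (nmap δ u) • p4) := fun u hu hu' => by
    obtain ⟨a, b, h⟩ := hform u hu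
    obtain ⟨h1, h2, h3⟩ := h hu'
    rw [← h2, ← h3]; exact h1
  have hbig' : ∀ u, B8 u v0 = 0 → nmap δ u ∈ A8 := by
    intro u hu
    have hsub : A8 = H2 := by
      refine Finset.eq_of_subset_of_card_le hAH ?_
      by_contra hlt
      push Not at hlt
      have hall2 : 16 ≤ H2.card := by
        obtain ⟨n, hn', hnA⟩ := Finset.exists_of_ssubset
          (Finset.ssubset_iff_subset_ne.2 ⟨hAH, fun e => by rw [e] at hlt; omega⟩)
        have hdis : Disjoint A8 (A8.image (· + n)) := by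
          rw [Finset.disjoint_left]
          intro a ha hb
          obtain ⟨b, hb', e⟩ := Finset.mem_image.1 hb
          refine hnA ?_
          obtain ⟨i, hi, rfl⟩ := List.mem_map.1 (List.mem_toFinset.1 ha)
          obtain ⟨j, hj, rfl⟩ := List.mem_map.1 (List.mem_toFinset.1 hb')
          have e' : n = vc (i ^^^ j) := by
            rw [vc_xor, ← e, add_comm, ← add_assoc, add_self_vec, zero_add]
          have hcl : ∀ i ∈ span 2 4, ∀ j ∈ span 2 4, (i ^^^ j) ∈ span 2 4 := by decide +kernel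
          rw [e']
          exact List.mem_toFinset.2 (List.mem_map.2 ⟨_, hcl i hi j hj, rfl⟩)
        have hs : A8 ∪ A8.image (· + n) ⊆ H2 := Finset.union_subset hAH fun m hm => by
          obtain ⟨b, hb, rfl⟩ := Finset.mem_image.1 hm
          exact hH2add (hAH hb) hn'
        have := Finset.card_le_card hs
        rw [Finset.card_union_of_disjoint hdis, Finset.card_image_of_injective _ (add_left_injective _),
          hA8] at this
        omega
      -- the whole range would be moved from the hyperplane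
      have hrange : ∀ x, nmap δ x ∈ H2 := fun x => by
        have hsub' : H2 ⊆ Finset.univ.filter (fun n => n ∈ LinearMap.range (nmap δ)) := fun n hn' => by
          obtain ⟨u, -, rfl⟩ := Finset.mem_image.1 hn'
          exact Finset.mem_filter.2 ⟨Finset.mem_univ _, ⟨u, rfl⟩⟩
        have heq := Finset.eq_of_subset_of_card_le hsub' (by
          rw [← Fintype.card_subtype, ← Nat.card_eq_fintype_card]
          refine le_of_eq_of_le ?_ hall2
          have : rk δ = 4 := by rw [hρ2, rk_conj, hr1]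
          rw [Module.natCard_eq_pow_finrank (K := ZMod 2), Nat.card_zmod]
          exact (congrArg (2 ^ ·) this).trans rfl)
        exact heq ▸ Finset.mem_filter.2 ⟨Finset.mem_univ _, ⟨x, rfl⟩⟩
      refine v0_ne (hQ8.1 v0 fun x => ?_)
      show polar (⇑Q8) v0 x = 0
      rw [← hwm, ← polar_nmap hsq2]
      obtain ⟨u', hu', e⟩ := Finset.mem_image.1 (hrange x)
      rw [← e, polar_nmap hsq2, hwm, polar_comm]
      exact (Finset.mem_filter.1 hu').2
    exact hsub ▸ hmem2 u hu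
  -- compare with the test vectors
  have h32 := hmemA _ B_32 (hbig' _ B_32)
  have h64 := hmemA _ B_64 (hbig' _ B_64)
  have hα0 : B8 (vc 32) (nmap δ (vc 32)) = 0 := by rw [B8, ← form_nmap]; exact hTS2 _ B_32
  have hβ0 : B8 (vc 64) (nmap δ (vc 64)) = 0 := by rw [B8, ← form_nmap]; exact hTS2 _ B_64
  rw [hα0, zero_smul, zero_add] at h32
  rw [hβ0, zero_smul, add_zero] at h64
  have hsym : B8 (vc 32) (nmap δ (vc 64)) = B8 (vc 64) (nmap δ (vc 32)) := by
    rw [B8, polar_nmap hsq2, polar_comm]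
  rw [hsym] at h64
  rcases bit (B8 (vc 64) (nmap δ (vc 32))) with e | e
  · exfalso
    rw [e, zero_smul] at h32 h64
    have hz32 : ∀ u, B8 u v0 = 0 → Eqv (nmap δ u) 0 := fun u hu => by
      have h := hmemA u hu (hbig' u hu)
      have a0 : B8 (vc 32) (nmap δ u) = 0 := by
        rw [B8, polar_nmap hsq2]; exact (h32.polar_eq hu).trans (by rw [B8, polar_zero_left])
      have b0 : B8 (vc 64) (nmap δ u) = 0 := by
        rw [B8, polar_nmap hsq2]; exact (h64.polar_eq hu).trans (by rw [B8, polar_zero_left])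
      rwa [a0, b0, zero_smul, zero_smul, add_zero] at h
    exact sType.va_ne (e2.symm.trans (hz32 _ hU2))
  rw [e, one_smul] at h32 h64
  have ea : α = B8 p4 v := by
    rw [hα, B8, polar_nmap hsq2]; exact h32.polar_eq hv
  have eb : β = B8 p2 v := by
    rw [hβ, B8, polar_nmap hsq2]; exact h64.polar_eq hv
  rw [ea, eb] at hev
  exact hev

/-- A comparison involution. -/
structure Base0 (t0 : G) : Prop where
  cz : Commute t0 z
  cs : Commute t0 F.s
  cy : Commute t0 F.y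
  sq : t0 * t0 = 1
  act_eq : ∀ v, nmap (D.ρ t0) v = N0 v
  comm : ∀ x ∈ Q, B8 p2 (D.c x) = 0 → B8 p4 (D.c x) = 0 → Commute t0 x

theorem exists_base0 (F : Frame D) : ∃ t0, F.Base0 t0 := by
  obtain ⟨r, hr, ha⟩ := F.exists_r B_p2
  obtain ⟨γ, hγ, hγ0, hγ2⟩ := exists_shift
  obtain ⟨g, hg, rfl⟩ := D.ρ_surj hγ
  have hS := sig_of_mem hr
  set t0 := g * r * g⁻¹ with ht0
  have hz : Commute t0 z := (hg.mul_left hS.cz).mul_left hg.inv_left
  have hρ : D.ρ t0 = D.ρ g * D.ρ r * (D.ρ g)⁻¹ := by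
    rw [ht0, D.ρ_mul (hg.mul_left hS.cz) hg.inv_left, D.ρ_mul hg hS.cz, D.rho_inv hg]
  have hinv0 : ∀ v, B8 (act (D.ρ g)⁻¹ v) v0 = B8 v p4 := fun v => by
    rw [B8, ← act_polar (D.ρ g), act_act_inv, hγ0]
  have hinv2 : ∀ v, B8 p2 (act (D.ρ g)⁻¹ v) = B8 p2 v := fun v => by
    rw [B8, ← act_polar (D.ρ g), act_act_inv, hγ2]
  have hcomm : ∀ x ∈ Q, B8 p2 (D.c x) = 0 → B8 p4 (D.c x) = 0 → Commute t0 x := by
    intro x hx h2 h4
    set x' := g⁻¹ * x * g with hx'
    have hxQ : x' ∈ Q := by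
      have := D.setup.conj_mem hg.inv_left hx
      rwa [inv_inv] at this
    have hcx : D.c x' = act (D.ρ g)⁻¹ (D.c x) := by
      rw [← D.rho_inv hg, D.ρ_act hg.inv_left hx, inv_inv]
    have hp : B8 (D.c x') v0 = 0 := by
      rw [hcx, hinv0, B8, polar_comm]; exact h4
    have e := comm_RQ hr hxQ ((F.commute_s_iff hxQ).2 hp)
    rw [ha.polar_eq hp, hcx, hinv2, h2, F.el_zero, mul_inv_eq_one, mul_inv_eq_iff_eq_mul] at e
    have := (Commute.conj_iff g).2 (show Commute r x' from e)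
    rwa [hx', show g * (g⁻¹ * x * g) * g⁻¹ = x by group] at this
  have ha' : F.av r = p2 := by
    rcases ha with e | e
    · exact e
    · exfalso
      have h1 : Q8 (F.av r) = B8 yy (F.av r) := form_nmap (D.ρ r) yy
      rw [e, QuadraticMap.map_add ⇑Q8, Q_v0, Q_p2, show polar (⇑Q8) p2 v0 = 0 from B_p2, B8,
        polar_add_right, polar_comm _ yy p2, show polar (⇑Q8) p2 yy = 0 from B_2_yy,
        show polar (⇑Q8) yy v0 = 1 from B_yy] at h1
      simp at h1
  have hηv : ∀ v, nmap (D.ρ r) v = B8 p2 v • v0 + B8 v v0 • p2 := by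
    intro v
    have h1 : ∀ u, B8 u v0 = 0 → nmap (D.ρ r) u = B8 p2 u • v0 := fun u hu => by
      rw [hS.nmap_eq hu, ha']
    rcases bit (B8 v v0) with e | e
    · rw [e, zero_smul, add_zero, h1 v e]
    · have hx : B8 (v + yy) v0 = 0 := by
        rw [B8, polar_add_left, show polar (⇑Q8) v v0 = 1 from e,
          show polar (⇑Q8) yy v0 = 1 from B_yy]
        rfl
      have hv2 : v = (v + yy) + yy := by rw [add_assoc, add_self_vec, add_zero]
      have hB : B8 p2 (v + yy) = B8 p2 v := by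
        rw [B8, B8, polar_add_right, show polar (⇑Q8) p2 yy = 0 from B_2_yy, add_zero]
      rw [e, one_smul]
      conv_lhs => rw [hv2]
      rw [map_add, h1 _ hx, show nmap (D.ρ r) yy = p2 from ha', hB]
  refine ⟨t0, hz, hcomm F.s F.pair.mem (by rw [F.hs]; exact B_p2) (by rw [F.hs]; exact B_p4),
    hcomm F.y F.hy (by rw [F.hcy]; exact B_2_yy) (by rw [F.hcy]; exact B_4_yy), ?_, fun v => ?_, hcomm⟩
  · have hr2 : r * r = 1 := by rw [sq_R hr, ha', Q_p2, F.el_zero]
    rw [ht0, show g * r * g⁻¹ * (g * r * g⁻¹) = g * (r * r) * g⁻¹ by group, hr2]; group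
  · rw [hρ, show nmap (D.ρ g * D.ρ r * (D.ρ g)⁻¹) v =
      nmap (D.ρ g * D.ρ r * (D.ρ g)⁻¹) (act (D.ρ g) (act (D.ρ g)⁻¹ v)) by rw [act_act_inv],
      nmap_conj, hηv, hinv2, hinv0, act_add, act_smul, act_smul, hγ0, hγ2, N0, add_comm,
      show B8 v p4 = B8 p4 v from polar_comm _ _ _]

/-- Exponents of `t` on the fixed part of `C_R(z)`. -/
theorem exists_kill {t : G} (ht : F.Four t) :
    (∀ r ∈ fixIn F.R z, InFix (F.av r) → ∃ j, t * r * t⁻¹ = el z F.s 0 j * r) ∨
    (∀ r ∈ fixIn F.R z, InFix (F.av r) →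
      ∃ j, F.y * t * F.y⁻¹ * r * (F.y * t * F.y⁻¹)⁻¹ = el z F.s 0 j * r) := by
  classical
  obtain ⟨t0, h0⟩ := exists_base0 F
  have hρ0 : D.ρ t0 * D.ρ t0 = 1 := D.rho_sq h0.cz (h0.sq ▸ one_mem Q)
  -- `t0 t` is small
  have hN : ∀ v, InFix v → nmap (D.ρ t0) v = 0 := fun v hv => by
    rw [h0.act_eq, N0, hv.2.1, hv.2.2, zero_smul, zero_smul, add_zero]
  have hS : F.Sig (t0 * t) := sig_of_small (h0.cz.mul_left ht.cz) (h0.cs.mul_left ht.cs) fun v hv => by
    have hc := ht.cong v hv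
    have h1 : nmap (D.ρ t0) (nmap (D.ρ t) v) = 0 := by
      refine hN _ (InFix.of_eqv hc ⟨N0_perp v, ?_, ?_⟩) <;>
        rw [N0, B8, polar_add_right, polar_smul_right, polar_smul_right]
      · rw [polar_self_two, show polar (⇑Q8) p2 p4 = 0 from B_24, smul_zero, smul_zero, add_zero]
      · rw [polar_self_two, show polar (⇑Q8) p4 p2 = 0 from (polar_comm _ _ _).trans B_24, smul_zero,
          smul_zero, add_zero]
    rw [nmap_apply, D.ρ_mul h0.cz ht.cz, act_mul, act_eq_add (D.ρ t) v, act_add, act_eq_add _ (nmap _ v),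
      h1, add_zero, act_eq_add (D.ρ t0) v, h0.act_eq]
    rcases hc with e | e <;> rw [e]
    · left; abel_nf; simp [two_smul, add_self_vec]
    · right; abel_nf; simp [two_smul, add_self_vec]
  obtain ⟨r, x, hr, hxQ, hxs, hux, -, -⟩ := hS.decompose
  have hSr := sig_of_mem hr
  have ht' : t = t0 * (r * x) := by rw [← hux, ← mul_assoc, h0.sq, one_mul]
  have ti0 : t0⁻¹ = t0 := inv_eq_of_mul_eq_one_left h0.sq
  -- the action of `t0` on the fixed part of `C_R(z)`
  have hμ : ∀ r' ∈ fixIn F.R z, InFix (F.av r') → ∃ μ, t0 * r' * t0⁻¹ = el z F.s μ 0 * r' := by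
    intro r' hr' hfx
    have hS' := sig_of_mem hr'
    obtain ⟨hc', hav⟩ := F.av_conj h0.cz h0.cs hr'
    have hρeq := (sig_of_mem hc').rho_eq hS' (hav.trans (Or.inl (by
      rw [act_eq_add, hN _ hfx, add_zero])))
    have hcz : Commute (t0 * r' * t0⁻¹ * r'⁻¹) z := (sig_of_mem hc').cz.mul_left hS'.cz.inv_left
    have hQ : t0 * r' * t0⁻¹ * r'⁻¹ ∈ Q := (D.ρ_ker hcz).1 (by
      rw [D.ρ_mul (sig_of_mem hc').cz hS'.cz.inv_left, D.rho_inv hS'.cz, hρeq, mul_inv_cancel])
    obtain ⟨μ, ν, hμν⟩ := F.eq_el_of_small hQ (F.inter_small hQ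
      (mul_mem (mem_fixIn.1 hc').1 (inv_mem (mem_fixIn.1 hr').1)))
    have he : t0 * r' * t0⁻¹ = el z F.s μ ν * r' := by rw [← hμν, inv_mul_cancel_right]
    obtain ⟨hq, hqs, hqc⟩ := qel_spec hr'
    have hq0 : Commute t0 (F.qel r') := h0.comm _ hq (hqc.symm ▸ hfx.2.1) (hqc.symm ▸ hfx.2.2)
    have hy2 : F.y * el z F.s μ ν * F.y⁻¹ = el z F.s (μ + ν) ν := by
      rw [el, el, show F.y * (pw z μ * pw F.s ν) * F.y⁻¹ =
        (F.y * pw z μ * F.y⁻¹) * (F.y * pw F.s ν * F.y⁻¹) by group,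
        show F.y * pw z μ * F.y⁻¹ = pw z μ by
          rcases pw_cases z μ with ⟨-, e⟩ | ⟨-, e⟩ <;> rw [e]
          · group
          · exact F.conj_y_z,
        show F.y * pw F.s ν * F.y⁻¹ = pw z ν * pw F.s ν by
          rcases pw_cases F.s ν with ⟨d, e⟩ | ⟨d, e⟩ <;> rw [e, d]
          · rw [pw_zero]; group
          · rw [pw_one]; exact F.conj_y_s,
        ← mul_assoc, pw_mul F.zz]
    have h1 : F.y * (t0 * r' * t0⁻¹) * F.y⁻¹ = t0 * (r' * F.qel r') * t0⁻¹ := by
      rw [show r' * F.qel r' = F.y * r' * F.y⁻¹ by rw [qel, mul_inv_cancel_left]]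
      calc F.y * (t0 * r' * t0⁻¹) * F.y⁻¹ = (F.y * t0) * r' * (F.y * t0)⁻¹ := by group
        _ = (t0 * F.y) * r' * (t0 * F.y)⁻¹ := by rw [h0.cy.eq]
        _ = _ := by group
    have hR : t0 * (r' * F.qel r') * t0⁻¹ = el z F.s μ ν * (r' * F.qel r') := by
      rw [show t0 * (r' * F.qel r') * t0⁻¹ = (t0 * r' * t0⁻¹) * (t0 * F.qel r' * t0⁻¹) by group, he,
        hq0.eq, mul_inv_cancel_right, mul_assoc]
    have hL : F.y * (t0 * r' * t0⁻¹) * F.y⁻¹ = el z F.s (μ + ν) ν * (r' * F.qel r') := by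
      rw [he, show F.y * (el z F.s μ ν * r') * F.y⁻¹ =
        (F.y * el z F.s μ ν * F.y⁻¹) * (F.y * r' * F.y⁻¹) by group, hy2,
        show r' * F.qel r' = F.y * r' * F.y⁻¹ by rw [qel, mul_inv_cancel_left]]
    rw [hL, hR] at h1
    have h3 := (F.el_inj (mul_right_cancel h1)).1
    have : ν = 0 := add_eq_left.1 h3
    exact ⟨μ, by rw [he, this]⟩
  -- `a = av r` and `b = c x` are fixed
  have htt := ht.sq
  rw [ht'] at htt
  have hrx : t0 * (r * x) * t0⁻¹ = (r * x)⁻¹ := by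
    rw [ti0]; exact eq_inv_of_mul_eq_one_left (by rw [← htt]; group)
  obtain ⟨hc0, hav0⟩ := F.av_conj h0.cz h0.cs hr
  have hxz : Commute x z := (D.setup.z_commute hxQ).symm
  have hρrx : D.ρ (r * x) = D.ρ r := by rw [D.ρ_mul hSr.cz hxz, (D.ρ_ker hxz).2 hxQ, mul_one]
  have hρc : D.ρ (t0 * r * t0⁻¹) = D.ρ r := by
    have e := congrArg D.ρ hrx
    have hx0 : Commute (t0 * x * t0⁻¹) z := (h0.cz.mul_left hxz).mul_left h0.cz.inv_left
    rw [show t0 * (r * x) * t0⁻¹ = (t0 * r * t0⁻¹) * (t0 * x * t0⁻¹) by group,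
      D.ρ_mul (sig_of_mem hc0).cz hx0, (D.ρ_ker hx0).2 (D.setup.conj_mem h0.cz hxQ), mul_one,
      D.rho_inv (hSr.cz.mul_left hxz), hρrx, inv_eq_of_mul_eq_one_left hSr.inv] at e
    exact e
  have haF : InFix (F.av r) := by
    have h1 : Eqv (act (D.ρ t0) (F.av r)) (F.av r) := hav0.symm.trans (Or.inl (by rw [av, av, hρc]))
    have h2 : Eqv (N0 (F.av r)) 0 := by
      have := h1.add (Or.inl rfl : Eqv (F.av r) (F.av r))
      rwa [← nmap_apply, h0.act_eq, add_self_vec] at this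
    exact ⟨hSr.av_perp, N0_eqv_zero h2⟩
  obtain ⟨μa, hμa⟩ := hμ r hr haF
  have hxc : t0 * x * t0⁻¹ = r⁻¹ * el z F.s μa 0 * x⁻¹ * r⁻¹ := by
    calc t0 * x * t0⁻¹ = (t0 * r * t0⁻¹)⁻¹ * (t0 * (r * x) * t0⁻¹) := by group
      _ = _ := by rw [hrx, hμa, mul_inv_rev, mul_inv_rev, F.el_inv, ← mul_assoc]
  have hbF : InFix (D.c x) := by
    refine ⟨(F.commute_s_iff hxQ).1 hxs, N0_eqv_zero ?_⟩
    have hcs := comm_RQ hr (inv_mem hxQ) hxs.inv_left
    generalize B8 (F.av r) (D.c x⁻¹) = d at hcs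
    have e1 : r * x⁻¹ * r⁻¹ = el z F.s d d * x⁻¹ := mul_inv_eq_iff_eq_mul.1 hcs
    have e2 : t0 * x * t0⁻¹ =
        el z F.s μa 0 * (el z F.s d d * x⁻¹) * el z F.s 0 (Q8 (F.av r)) := by
      have hrr : r⁻¹ = r * el z F.s 0 (Q8 (F.av r)) := by
        rw [← F.el_inv, ← sq_R hr]; group
      rw [hxc, show r⁻¹ * el z F.s μa 0 * x⁻¹ * r⁻¹ = el z F.s μa 0 * (r⁻¹ * x⁻¹ * r⁻¹) by
        rw [(F.el_commute hSr.cz.inv_left hSr.cs.inv_left μa 0).eq]; group]
      have hcE := F.el_commute (hSr.cz.mul_left hxz.inv_left) (hSr.cs.mul_left hxs.inv_left) 0 (Q8 (F.av r))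
      rw [show r⁻¹ * x⁻¹ * r⁻¹ = r * el z F.s 0 (Q8 (F.av r)) * x⁻¹ * r⁻¹ by rw [← hrr],
        show r * el z F.s 0 (Q8 (F.av r)) * x⁻¹ * r⁻¹ = r * (el z F.s 0 (Q8 (F.av r)) * x⁻¹) * r⁻¹ by group,
        (F.el_commute hxz.inv_left hxs.inv_left 0 (Q8 (F.av r))).symm.eq,
        show r * (x⁻¹ * el z F.s 0 (Q8 (F.av r))) * r⁻¹ =
          (r * x⁻¹ * r⁻¹) * (r * el z F.s 0 (Q8 (F.av r)) * r⁻¹) by group, e1,
        (F.el_commute hSr.cz hSr.cs 0 (Q8 (F.av r))).eq, mul_inv_cancel_right]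
      group
    have e3 := congrArg D.c e2
    have hm1 := mul_mem (F.el_mem d d).1 (inv_mem hxQ)
    rw [← D.ρ_act h0.cz hxQ, D.coords.mul _ (mul_mem (F.el_mem μa 0).1 hm1) _ (F.el_mem 0 _).1,
      D.coords.mul _ (F.el_mem μa 0).1 _ hm1, D.coords.mul _ (F.el_mem d d).1 _ (inv_mem hxQ),
      D.coords.c_inv hxQ, F.c_el, F.c_el, F.c_el, zero_smul, zero_add] at e3
    rw [← h0.act_eq, nmap_apply, e3]
    have : ∀ a b : ZMod 2, Eqv (a • v0 + D.c x + b • v0 + D.c x) 0 := by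
      intro a b
      rw [show a • v0 + D.c x + b • v0 + D.c x = (a • v0 + b • v0) + (D.c x + D.c x) by abel, add_self_vec,
        add_zero, ← add_smul]
      rcases bit (a + b) with e | e <;> rw [e]
      · left; rw [zero_smul]
      · right; rw [one_smul, zero_add]
    exact this _ _
  have hx0 : Commute t0 x := h0.comm x hxQ hbF.2.1 hbF.2.2
  -- the equations from `t² = 1`
  have heq : el z F.s μa 0 *
      el z F.s (B8 (F.av r) (D.c x) + Q8 (D.c x)) (Q8 (F.av r) + B8 (F.av r) (D.c x)) = el z F.s 0 0 := by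
    rw [← F.sq_prod hr hxQ hxs, F.el_zero]
    calc el z F.s μa 0 * (r * x * (r * x)) = (el z F.s μa 0 * r) * (x * (r * x)) := by group
      _ = (t0 * r * t0⁻¹) * (x * (r * x)) := by rw [hμa]
      _ = (t0 * r * t0⁻¹) * ((t0 * x * t0⁻¹) * (r * x)) := by rw [hx0.eq, mul_inv_cancel_right]
      _ = (t0 * (r * x) * t0⁻¹) * (r * x) := by group
      _ = 1 := by rw [hrx, inv_mul_cancel]
  rw [F.el_mul] at heq
  obtain ⟨E1, E2⟩ := F.el_inj heq
  -- exponents
  have hexp : ∀ r' ∈ fixIn F.R z, InFix (F.av r') → ∃ μ, t0 * r' * t0⁻¹ = el z F.s μ 0 * r' ∧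
      t * r' * t⁻¹ = el z F.s (μ + B8 (F.av r') (D.c x))
        (B8 (F.av r') (D.c x) + B8 (F.av r) (F.av r')) * r' := by
    intro r' hr' hfx
    obtain ⟨μ, hμ'⟩ := hμ r' hr' hfx
    have hS' := sig_of_mem hr'
    refine ⟨μ, hμ', ?_⟩
    have h1 := inv_of_el (F := F) (comm_RQ hr' hxQ hxs)
    have h2 := (comm_R hr hr').1
    generalize B8 (F.av r') (D.c x) = β at h1 ⊢
    generalize B8 (F.av r) (F.av r') = δ at h2 ⊢
    have e1 : x * r' * x⁻¹ = el z F.s β β * r' := mul_inv_eq_iff_eq_mul.1 h1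
    have e2 : r * r' * r⁻¹ = el z F.s 0 δ * r' := mul_inv_eq_iff_eq_mul.1 h2
    rw [ht', show t0 * (r * x) * r' * (t0 * (r * x))⁻¹ = t0 * (r * (x * r' * x⁻¹) * r⁻¹) * t0⁻¹ by group,
      e1, show r * (el z F.s β β * r') * r⁻¹ = (r * el z F.s β β * r⁻¹) * (r * r' * r⁻¹) by group, e2,
      (F.el_commute hSr.cz hSr.cs β β).eq, mul_inv_cancel_right, ← mul_assoc (el z F.s β β) (el z F.s 0 δ) r', F.el_mul,
      show t0 * (el z F.s (β + 0) (β + δ) * r') * t0⁻¹ =
        (t0 * el z F.s (β + 0) (β + δ) * t0⁻¹) * (t0 * r' * t0⁻¹) by group, hμ',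
      (F.el_commute h0.cz h0.cs _ _).eq, mul_inv_cancel_right, ← mul_assoc, F.el_mul, add_zero, add_zero,
      add_comm β μ]
  -- the exponent of `z`
  have hch : ∀ v, InFix v → ∃ i : ZMod 2, ∀ r' ∈ fixIn F.R z, Eqv (F.av r') v →
      ∃ j, t * r' * t⁻¹ = el z F.s i j * r' := by
    intro v hv
    obtain ⟨r1, hr1, he1⟩ := F.exists_r hv.1
    obtain ⟨μ, -, h1⟩ := hexp r1 hr1 (InFix.of_eqv he1 hv)
    refine ⟨μ + B8 (F.av r1) (D.c x), fun r' hr' he' => ?_⟩
    have hS1 := sig_of_mem hr1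
    have hS' := sig_of_mem hr'
    have hρ := hS'.rho_eq hS1 (he'.trans he1.symm)
    have hcz : Commute (r' * r1⁻¹) z := hS'.cz.mul_left hS1.cz.inv_left
    have hQ : r' * r1⁻¹ ∈ Q := (D.ρ_ker hcz).1 (by
      rw [D.ρ_mul hS'.cz hS1.cz.inv_left, D.rho_inv hS1.cz, hρ, mul_inv_cancel])
    obtain ⟨k, l, hkl⟩ := F.eq_el_of_small hQ
      (F.inter_small hQ (mul_mem (mem_fixIn.1 hr').1 (inv_mem (mem_fixIn.1 hr1).1)))
    have e : r' = el z F.s k l * r1 := by rw [← hkl, inv_mul_cancel_right]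
    refine ⟨B8 (F.av r1) (D.c x) + B8 (F.av r) (F.av r1), ?_⟩
    rw [e, show t * (el z F.s k l * r1) * t⁻¹ = (t * el z F.s k l * t⁻¹) * (t * r1 * t⁻¹) by group, h1,
      (F.el_commute ht.cz ht.cs k l).eq, mul_inv_cancel_right, ← mul_assoc, ← mul_assoc, F.el_mul, F.el_mul,
      add_comm k, add_comm l]
  choose! ψ hψ using hch
  have hψadd : ∀ u v, InFix u → InFix v → ψ (u + v) = ψ u + ψ v := by
    intro u v hu hv
    obtain ⟨r1, hr1, he1⟩ := F.exists_r hu.1
    obtain ⟨r2, hr2, he2⟩ := F.exists_r hv.1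
    have hS1 := sig_of_mem hr1
    have hS2 := sig_of_mem hr2
    have hav : Eqv (F.av (r1 * r2)) (u + v) := by
      refine Eqv.trans ?_ (he1.add he2)
      rw [av, nmap_apply, D.ρ_mul hS1.cz hS2.cz, act_mul, act_eq_add (D.ρ r2) yy,
        show nmap (D.ρ r2) yy = F.av r2 from rfl, act_add, act_eq_add (D.ρ r1) yy,
        show nmap (D.ρ r1) yy = F.av r1 from rfl, act_eq_add (D.ρ r1) (F.av r2)]
      rcases hS1.small _ hS2.av_perp with e | e <;> rw [e]
      · left; abel_nf; simp [two_smul, add_self_vec]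
      · right; abel_nf; simp [two_smul, add_self_vec]
    obtain ⟨j1, e1⟩ := hψ u hu r1 hr1 he1
    obtain ⟨j2, e2⟩ := hψ v hv r2 hr2 he2
    obtain ⟨j3, e3⟩ := hψ _ (hu.add hv) _ (mul_mem hr1 hr2) hav
    rw [show t * (r1 * r2) * t⁻¹ = (t * r1 * t⁻¹) * (t * r2 * t⁻¹) by group, e1, e2,
      show el z F.s (ψ u) j1 * r1 * (el z F.s (ψ v) j2 * r2) =
        el z F.s (ψ u) j1 * (r1 * el z F.s (ψ v) j2) * r2 by group,
      (F.el_commute hS1.cz hS1.cs (ψ v) j2).eq,
      show el z F.s (ψ u) j1 * (el z F.s (ψ v) j2 * r1) * r2 =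
        el z F.s (ψ u) j1 * el z F.s (ψ v) j2 * (r1 * r2) by group, F.el_mul] at e3
    exact (F.el_inj (mul_right_cancel e3)).1.symm
  have hψone : ψ 0 = 0 := by
    have := hψadd 0 0 inFix_zero inFix_zero
    rw [add_zero, zadd2] at this
    exact this
  have hψv0 : ψ v0 = 0 := by
    have h1 : Eqv (F.av (1 : G)) v0 := by
      right
      rw [av, D.rho_one, nmap_apply, act_one, add_self_vec, add_self_vec]
    obtain ⟨j, e⟩ := hψ v0 inFix_v0 1 (one_mem _) h1
    have h2 : el z F.s (ψ v0) j = el z F.s 0 0 := by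
      rw [F.el_zero]
      have e' : t * 1 * t⁻¹ = 1 := by group
      rw [e', mul_one] at e
      exact e.symm
    exact (F.el_inj h2).1
  have hψp : ∀ p w0 : V8, InFix p → B8 w0 v0 = 0 → N0 w0 = p → Q8 p = 0 → B8 p (D.c x) = 0 → ψ p = 0 := by
    intro p w0 hp hw0 hN0 hq hB
    obtain ⟨r2, hr2, he2⟩ := F.exists_r hw0
    have hS2 := sig_of_mem hr2
    obtain ⟨hc2, hav2⟩ := F.av_conj h0.cz h0.cs hr2
    set e := t0 * r2 * t0⁻¹ * r2⁻¹ with he
    have heR : e ∈ fixIn F.R z := mul_mem hc2 (inv_mem hr2)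
    have hSc := sig_of_mem hc2
    have hav : Eqv (F.av e) p := by
      have hρe : D.ρ e = D.ρ (t0 * r2 * t0⁻¹) * D.ρ r2 := by
        rw [he, D.ρ_mul hSc.cz hS2.cz.inv_left, D.rho_inv hS2.cz, inv_eq_of_mul_eq_one_left hS2.inv]
      have h1 : Eqv (F.av e) (F.av (t0 * r2 * t0⁻¹) + F.av r2) := by
        rw [av, nmap_apply, hρe, act_mul, act_eq_add (D.ρ r2) yy,
          show nmap (D.ρ r2) yy = F.av r2 from rfl, act_add,
          act_eq_add (D.ρ (t0 * r2 * t0⁻¹)) yy,
          show nmap (D.ρ (t0 * r2 * t0⁻¹)) yy = F.av (t0 * r2 * t0⁻¹) from rfl,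
          act_eq_add _ (F.av r2)]
        rcases hSc.small _ hS2.av_perp with e' | e' <;> rw [e']
        · left; abel_nf; simp [two_smul, add_self_vec]
        · right; abel_nf; simp [two_smul, add_self_vec]
      refine h1.trans ((hav2.add (Or.inl rfl : Eqv (F.av r2) (F.av r2))).trans ?_)
      rw [← nmap_apply, h0.act_eq]
      have : N0 (F.av r2) = N0 w0 := by
        rw [N0, N0, show B8 p4 (F.av r2) = B8 p4 w0 by
            rw [B8, polar_comm]; exact (he2.polar_eq B_p4).trans (polar_comm _ _ _),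
          show B8 p2 (F.av r2) = B8 p2 w0 by
            rw [B8, polar_comm]; exact (he2.polar_eq B_p2).trans (polar_comm _ _ _)]
      rw [this, hN0]; exact Or.inl rfl
    have hee : e⁻¹ = e := inv_eq_of_mul_eq_one_left (by
      rw [sq_R heR, hav.form_eq hp.1, hq, F.el_zero])
    have hte : t0 * e * t0⁻¹ = e := by
      calc t0 * e * t0⁻¹ = (t0 * t0) * r2 * t0⁻¹ * r2⁻¹ * t0⁻¹ := by rw [he]; group
        _ = r2 * t0 * r2⁻¹ * t0⁻¹ := by rw [h0.sq, ti0]; group
        _ = e⁻¹ := by rw [he]; group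
        _ = e := hee
    obtain ⟨μ, hμe, h1⟩ := hexp e heR (InFix.of_eqv hav hp)
    rw [hte] at hμe
    have hμ0 : μ = 0 := by
      have h3 : el z F.s μ 0 = el z F.s 0 0 := by rw [F.el_zero]; exact right_eq_mul.1 hμe
      exact (F.el_inj h3).1
    obtain ⟨j, h2⟩ := hψ p hp e heR hav
    have h4 := (F.el_inj (mul_right_cancel (h2.symm.trans h1))).1
    rw [h4, hμ0, zero_add, hav.polar_eq hbF.1, hB]
  have hψ2 : ψ p2 = 0 := hψp p2 (vc 64) inFix_p2 B_64 (by
    rw [N0, B_4_64, B_2_64, one_smul, zero_smul, add_zero]) Q_p2 hbF.2.1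
  have hψ4 : ψ p4 = 0 := hψp p4 (vc 32) inFix_p4 B_32 (by
    rw [N0, B_4_32, B_2_32, one_smul, zero_smul, zero_add]) Q_p4 hbF.2.2
  have hψsmul : ∀ (c : ZMod 2) v, InFix v → InFix (c • v) ∧ ψ (c • v) = c * ψ v := fun c v hv => by
    rcases bit c with rfl | rfl
    · rw [zero_smul, zero_mul]; exact ⟨inFix_zero, hψone⟩
    · rw [one_smul, one_mul]; exact ⟨hv, rfl⟩
  have hlin : ∀ v, InFix v → ψ v = B8 v (vc 128) * ψ (vc 8) + B8 v (vc 8) * ψ (vc 128) := by
    intro v hv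
    obtain ⟨-, -, i, j, k, e⟩ := hv.form hv
    obtain ⟨i1, i2⟩ := hψsmul i _ inFix_v0
    obtain ⟨j1, j2⟩ := hψsmul j _ inFix_p2
    obtain ⟨k1, k2⟩ := hψsmul k _ inFix_p4
    obtain ⟨a1, a2⟩ := hψsmul (B8 v (vc 128)) _ inFix_8
    obtain ⟨b1, b2⟩ := hψsmul (B8 v (vc 8)) _ inFix_128
    conv_lhs => rw [e]
    rw [hψadd _ _ (a1.add b1) ((i1.add j1).add k1), hψadd _ _ a1 b1, hψadd _ _ (i1.add j1) k1,
      hψadd _ _ i1 j1, a2, b2, i2, j2, k2, hψv0, hψ2, hψ4]
    ring
  -- the value at `a`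
  obtain ⟨fa, fab, -⟩ := haF.form hbF
  obtain ⟨fb, -, -⟩ := hbF.form haF
  have hψa : ψ (F.av r) = μa + B8 (F.av r) (D.c x) := by
    obtain ⟨μ, hμ', h1⟩ := hexp r hr haF
    obtain ⟨j, h2⟩ := hψ _ haF r hr (Or.inl rfl)
    have h4 := (F.el_inj (mul_right_cancel (h2.symm.trans h1))).1
    rw [hμa] at hμ'
    rw [h4, ← (F.el_inj (mul_right_cancel hμ')).1]
  set α := B8 (F.av r) (vc 128)
  set β := B8 (F.av r) (vc 8)
  -- `a` is not in the moved plane
  have hne : ¬ (α = 0 ∧ β = 0) := by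
    rintro ⟨hα, hβ⟩
    obtain ⟨w, hw0, hw⟩ := ht.moved
    have hwF : InFix w := ⟨hw0, N0_eqv_zero (((hw ▸ ht.cong w hw0 : Eqv v0 (N0 w))).symm.trans
      (Or.inr (zero_add _).symm))⟩
    obtain ⟨X, hX, rfl⟩ := D.coords.surj w
    have hXs := (F.commute_s_iff hX).2 hw0
    have h1 := comm_RQ hr hX hXs
    have h2 := D.coords.comm x hxQ X hX
    rw [show pw z (polar (⇑Q8) (D.c x) (D.c X)) = el z F.s (B8 (D.c x) (D.c X)) 0 by
      rw [el, pw_zero, mul_one]] at h2
    have hX0 : Commute t0 X := h0.comm X hX hwF.2.1 hwF.2.2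
    have hBw : B8 (F.av r) (D.c X) = 0 := by
      obtain ⟨-, fw, -⟩ := haF.form hwF
      rw [fw, show B8 (F.av r) (vc 128) = 0 from hα, show B8 (F.av r) (vc 8) = 0 from hβ]; ring
    rw [hBw] at h1
    generalize B8 (D.c x) (D.c X) = p at h2
    have e1 : x * X * x⁻¹ = el z F.s p 0 * X := mul_inv_eq_iff_eq_mul.1 h2
    have e2 : r * X * r⁻¹ = el z F.s 0 0 * X := mul_inv_eq_iff_eq_mul.1 h1
    have e3 : t * X * t⁻¹ = el z F.s p 0 * X := by
      rw [ht', show t0 * (r * x) * X * (t0 * (r * x))⁻¹ = t0 * (r * (x * X * x⁻¹) * r⁻¹) * t0⁻¹ by group,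
        e1, show r * (el z F.s p 0 * X) * r⁻¹ = (r * el z F.s p 0 * r⁻¹) * (r * X * r⁻¹) by group, e2,
        F.el_zero, one_mul, (F.el_commute hSr.cz hSr.cs p 0).eq, mul_inv_cancel_right,
        ((F.el_commute h0.cz h0.cs p 0).mul_right hX0).eq, mul_inv_cancel_right]
    have e4 : D.c (t * X * t⁻¹) = D.c X := by
      rw [e3, D.coords.mul _ (F.el_mem p 0).1 _ hX, F.c_el, zero_smul, zero_add]
    rw [nmap_apply, D.ρ_act ht.cz hX, e4, add_self_vec] at hw
    exact v0_ne hw.symm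
  rw [fa] at E2
  rw [fab] at E1 E2 hψa
  rw [fb] at E1
  rw [hlin _ haF] at hψa
  set α' := B8 (D.c x) (vc 128)
  set β' := B8 (D.c x) (vc 8)
  change μa + ((α * β' + α' * β) + α' * β') = 0 at E1
  change 0 + (α * β + (α * β' + α' * β)) = 0 at E2
  change α * ψ (vc 8) + β * ψ (vc 128) = μa + (α * β' + α' * β) at hψa
  have hsol : (ψ (vc 8) = 0 ∧ ψ (vc 128) = 0) ∨ (ψ (vc 8) = β ∧ ψ (vc 128) = α) := by
    have key : ∀ a b a' b' m p q : ZMod 2, ¬ (a = 0 ∧ b = 0) →
        m + ((a * b' + a' * b) + a' * b') = 0 → 0 + (a * b + (a * b' + a' * b)) = 0 →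
        a * p + b * q = m + (a * b' + a' * b) → (p = 0 ∧ q = 0) ∨ (p = b ∧ q = a) := by decide
    exact key _ _ _ _ _ _ _ hne E1 E2 hψa
  rcases hsol with ⟨h8, h128⟩ | ⟨h8, h128⟩
  · refine Or.inl fun r' hr' hfx => ?_
    obtain ⟨j, e⟩ := hψ _ hfx r' hr' (Or.inl rfl)
    rw [hlin _ hfx, h8, h128, mul_zero, mul_zero, add_zero] at e
    exact ⟨j, e⟩
  · refine Or.inr fun r' hr' hfx => ?_
    obtain ⟨μ, -, h1⟩ := hexp r' hr' hfx
    obtain ⟨j, e⟩ := hψ _ hfx r' hr' (Or.inl rfl)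
    have h4 := (F.el_inj (mul_right_cancel (e.symm.trans h1))).1
    have hsum : μ + B8 (F.av r') (D.c x) = B8 (F.av r) (F.av r') := by
      rw [← h4, hlin _ hfx, h8, h128]
      obtain ⟨-, f, -⟩ := haF.form hfx
      rw [f]
      show _ = α * B8 (F.av r') (vc 8) + B8 (F.av r') (vc 128) * β
      ring
    rw [hsum] at h1
    obtain ⟨hq, hqs, hqc⟩ := qel_spec hr'
    have hq1 := comm_RQ hr hq hqs
    rw [hqc] at hq1
    have hq2 := D.coords.comm x hxQ _ hq
    rw [hqc, show pw z (polar (⇑Q8) (D.c x) (F.av r')) = el z F.s (B8 (F.av r') (D.c x)) 0 by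
      rw [el, pw_zero, mul_one, B8, polar_comm]] at hq2
    have hq0 : Commute t0 (F.qel r') := h0.comm _ hq (hqc.symm ▸ hfx.2.1) (hqc.symm ▸ hfx.2.2)
    generalize B8 (F.av r) (F.av r') = d at hq1 h1
    generalize B8 (F.av r') (D.c x) = b at hq2 h1
    have e1 : x * F.qel r' * x⁻¹ = el z F.s b 0 * F.qel r' := mul_inv_eq_iff_eq_mul.1 hq2
    have e2 : r * F.qel r' * r⁻¹ = el z F.s d d * F.qel r' := mul_inv_eq_iff_eq_mul.1 hq1
    have htq : t * F.qel r' * t⁻¹ = el z F.s (b + d) d * F.qel r' := by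
      rw [ht', show t0 * (r * x) * F.qel r' * (t0 * (r * x))⁻¹ =
          t0 * (r * (x * F.qel r' * x⁻¹) * r⁻¹) * t0⁻¹ by group, e1,
        show r * (el z F.s b 0 * F.qel r') * r⁻¹ =
          (r * el z F.s b 0 * r⁻¹) * (r * F.qel r' * r⁻¹) by group, e2,
        (F.el_commute hSr.cz hSr.cs b 0).eq, mul_inv_cancel_right, ← mul_assoc (el z F.s b 0) (el z F.s d d) (F.qel r'), F.el_mul,
        ((F.el_commute h0.cz h0.cs _ _).mul_right hq0).eq, mul_inv_cancel_right, zero_add]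
    have hyy : F.y * F.y = 1 := (D.sq_eq_one F.hy).2 (by rw [F.hcy]; exact Q_yy)
    have yi : F.y⁻¹ = F.y := inv_eq_of_mul_eq_one_left hyy
    refine ⟨b, ?_⟩
    have hsplit : F.y⁻¹ * r' * F.y = r' * F.qel r' := by
      rw [qel, mul_inv_cancel_left, yi]
    have hrel : t * (r' * F.qel r') * t⁻¹ = el z F.s b b * (r' * F.qel r') := by
      rw [show t * (r' * F.qel r') * t⁻¹ = (t * r' * t⁻¹) * (t * F.qel r' * t⁻¹) by group, h1, htq,
        show el z F.s d (b + d) * r' * (el z F.s (b + d) d * F.qel r') =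
          el z F.s d (b + d) * (r' * el z F.s (b + d) d) * F.qel r' by group,
        (F.el_commute (sig_of_mem hr').cz (sig_of_mem hr').cs _ _).eq]
      rw [show el z F.s d (b + d) * (el z F.s (b + d) d * r') * F.qel r' =
          el z F.s d (b + d) * el z F.s (b + d) d * (r' * F.qel r') by group, F.el_mul,
        add_comm b d, ← add_assoc, zadd2, zero_add, add_comm d b, add_assoc, zadd2, add_zero]
    calc F.y * t * F.y⁻¹ * r' * (F.y * t * F.y⁻¹)⁻¹ = F.y * (t * (F.y⁻¹ * r' * F.y) * t⁻¹) * F.y⁻¹ := by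
          group
      _ = F.y * (el z F.s b b * (r' * F.qel r')) * F.y⁻¹ := by rw [hsplit, hrel]
      _ = (F.y * el z F.s b b * F.y⁻¹) * (F.y * (F.y⁻¹ * r' * F.y) * F.y⁻¹) := by rw [hsplit]; group
      _ = el z F.s 0 b * r' := by
          rw [show F.y * (F.y⁻¹ * r' * F.y) * F.y⁻¹ = r' by group]
          congr 1
          rcases bit b with rfl | rfl
          · rw [F.el_zero]; group
          · rw [el, el, pw_one, pw_zero, pw_one, one_mul]; exact F.y_zs

/-- If the exponents of `z` vanish, then `t` is of rank two with singular image at the centre `s`. -/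
theorem rank_two_at_s {t : G} (ht : F.Four t)
    (hk : ∀ r ∈ fixIn F.R z, InFix (F.av r) → ∃ j, t * r * t⁻¹ = el z F.s 0 j * r) :
    ∃ t', IsConj t t' ∧ t' * t' = 1 ∧ Commute t' z ∧ t' ∉ Q ∧ rk (D.ρ t') = 2 ∧
      ∀ v, Q8 (nmap (D.ρ t') v) = 0 := by
  classical
  obtain ⟨k, hkz, hks, hR⟩ := F.pair.exists_swap
  have ek1 : k⁻¹ * F.s * k = z := by rw [← hkz]; group
  have ek2 : k⁻¹ * z * k = F.s := by
    calc k⁻¹ * z * k = k⁻¹ * (k * F.s * k⁻¹) * k := by rw [hks]
      _ = F.s := by group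
  set t' := k⁻¹ * t * k with ht'
  have hz' : Commute t' z := by
    have := (Commute.conj_iff k⁻¹).2 ht.cs
    rw [inv_inv, ek1] at this
    exact this
  have hs' : Commute t' F.s := by
    have := (Commute.conj_iff k⁻¹).2 ht.cz
    rw [inv_inv, ek2] at this
    exact this
  have h2' : t' * t' = 1 := by
    rw [ht', show k⁻¹ * t * k * (k⁻¹ * t * k) = k⁻¹ * (t * t) * k by group, ht.sq]; group
  have hcon : IsConj t t' := isConj_iff.2 ⟨k⁻¹, by rw [ht', inv_inv]⟩
  have hsq' : D.ρ t' * D.ρ t' = 1 := D.rho_sq hz' (h2' ▸ one_mem Q)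
  set δ := D.ρ t' with hδ
  -- the values on the hyperplane
  have hval : ∀ v, B8 v v0 = 0 → Q8 (nmap δ v) = 0 ∧
      (Eqv (nmap δ v) 0 → nmap δ v = 0) ∧
      (nmap δ v = 0 → ∀ a, Eqv a v → ∀ x ∈ Q, D.c x = v →
        InFix (F.av (k * x * k⁻¹))) ∧
      ∀ x ∈ Q, D.c x = v → InFix (F.av (k * x * k⁻¹)) → nmap δ v = 0 := by
    intro v hv
    have gen : ∀ x ∈ Q, D.c x = v → Q8 (nmap δ v) = 0 ∧ (Eqv (nmap δ v) 0 → nmap δ v = 0) ∧
        (nmap δ v = 0 → InFix (F.av (k * x * k⁻¹))) ∧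
        (InFix (F.av (k * x * k⁻¹)) → nmap δ v = 0) := by
      intro x hx hcx
      have hxs := (F.commute_s_iff hx).2 (hcx ▸ hv)
      set r := k * x * k⁻¹ with hr'
      have hr : r ∈ fixIn F.R z := by
        refine mem_fixIn.2 ⟨by rw [hR]; exact ⟨x, hx, rfl⟩, ?_⟩
        have := (Commute.conj_iff k).2 hxs
        rwa [hks] at this
      obtain ⟨hc, hav⟩ := F.av_conj ht.cz ht.cs hr
      set e := t * r * t⁻¹ * r⁻¹ with he
      have heR : e ∈ fixIn F.R z := mul_mem hc (inv_mem hr)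
      have hSr := sig_of_mem hr
      have hSc := sig_of_mem hc
      have hρe : D.ρ e = D.ρ (t * r * t⁻¹) * D.ρ r := by
        rw [he, D.ρ_mul hSc.cz hSr.cz.inv_left, D.rho_inv hSr.cz, inv_eq_of_mul_eq_one_left hSr.inv]
      have have' : Eqv (F.av e) (N0 (F.av r)) := by
        have h1 : Eqv (F.av e) (F.av (t * r * t⁻¹) + F.av r) := by
          rw [av, nmap_apply, hρe, act_mul, act_eq_add (D.ρ r) yy,
            show nmap (D.ρ r) yy = F.av r from rfl, act_add,
            act_eq_add (D.ρ (t * r * t⁻¹)) yy,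
            show nmap (D.ρ (t * r * t⁻¹)) yy = F.av (t * r * t⁻¹) from rfl,
            act_eq_add _ (F.av r)]
          rcases hSc.small _ hSr.av_perp with e' | e' <;> rw [e']
          · left; abel_nf; simp [two_smul, add_self_vec]
          · right; abel_nf; simp [two_smul, add_self_vec]
        refine h1.trans ((hav.add (Or.inl rfl : Eqv (F.av r) (F.av r))).trans ?_)
        rw [← nmap_apply]
        exact ht.cong _ hSr.av_perp
      set m := k⁻¹ * e * k with hm
      have hm' : m = t' * x * t'⁻¹ * x⁻¹ := by rw [hm, he, hr', ht']; group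
      have hmQ : m ∈ Q := hm' ▸ D.setup.comm_mem hz' hx
      have hcm : D.c m = nmap δ v := by
        rw [hm', D.coords.mul _ (D.setup.conj_mem hz' hx) _ (inv_mem hx), D.coords.c_inv hx,
          ← D.ρ_act hz' hx, ← nmap_apply, hcx]
      have hee : e * e = 1 := by rw [sq_R heR, have'.form_eq (N0_perp _), N0_Q, F.el_zero]
      have hq : Q8 (nmap δ v) = 0 := by
        rw [← hcm]
        refine (D.sq_eq_one hmQ).1 ?_
        rw [hm, show k⁻¹ * e * k * (k⁻¹ * e * k) = k⁻¹ * (e * e) * k by group, hee]; group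
      have hkel : ∀ i j, k⁻¹ * el z F.s i j * k = el z F.s j i := by
        intro i j
        rw [el, el, show k⁻¹ * (pw z i * pw F.s j) * k = (k⁻¹ * pw z i * k) * (k⁻¹ * pw F.s j * k) by group,
          show k⁻¹ * pw z i * k = pw F.s i by
            rcases pw_cases z i with ⟨d, e⟩ | ⟨d, e⟩ <;> rw [e, d]
            · rw [pw_zero]; group
            · rw [pw_one]; exact ek2,
          show k⁻¹ * pw F.s j * k = pw z j by
            rcases pw_cases F.s j with ⟨d, e⟩ | ⟨d, e⟩ <;> rw [e, d]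
            · rw [pw_zero]; group
            · rw [pw_one]; exact ek1]
        rcases pw_cases z j with ⟨-, e⟩ | ⟨-, e⟩ <;> rw [e]
        · rw [one_mul, mul_one]
        · rcases pw_cases F.s i with ⟨-, e'⟩ | ⟨-, e'⟩ <;> rw [e']
          · rw [one_mul, mul_one]
          · exact F.czs.symm.eq
      have hfwd : InFix (F.av r) → nmap δ v = 0 := fun hfx => by
        obtain ⟨j, hj⟩ := hk r hr hfx
        have : e = el z F.s 0 j := by rw [he, hj, mul_inv_cancel_right]
        rw [← hcm, hm, this, hkel, F.c_el, zero_smul]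
      have hback : Eqv (nmap δ v) 0 → InFix (F.av r) := fun h => by
        obtain ⟨i, j, hij⟩ := F.eq_el_of_small hmQ (hcm ▸ h)
        have hee' : e = el z F.s j i := by
          have e1 : e = k * m * k⁻¹ := by rw [hm]; group
          rw [e1, hij, ← hkel j i]; group
        have hz0 : Eqv (F.av e) 0 := by
          left
          rw [av, (D.ρ_ker (sig_of_mem heR).cz).2 (hee' ▸ (F.el_mem j i).1), nmap_apply, act_one,
            add_self_vec]
        exact ⟨hSr.av_perp, N0_eqv_zero (have'.symm.trans hz0)⟩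
      exact ⟨hq, fun h => hfwd (hback h), fun h => hback (Or.inl h), hfwd⟩
    obtain ⟨x, hx, hcx⟩ := D.coords.surj v
    exact ⟨(gen x hx hcx).1, (gen x hx hcx).2.1,
      fun h _ _ x' hx' hcx' => (gen x' hx' hcx').2.2.1 h, fun x' hx' hcx' => (gen x' hx' hcx').2.2.2⟩
  -- the hyperplane image has at most four elements
  have hex : ∀ v, B8 v v0 = 0 → ∃ x ∈ Q, D.c x = v ∧ k * x * k⁻¹ ∈ fixIn F.R z := fun v hv => by
    obtain ⟨x, hx, hcx⟩ := D.coords.surj v
    refine ⟨x, hx, hcx, mem_fixIn.2 ⟨by rw [hR]; exact ⟨x, hx, rfl⟩, ?_⟩⟩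
    have := (Commute.conj_iff k).2 ((F.commute_s_iff hx).2 (hcx ▸ hv))
    rwa [hks] at this
  choose! X hXQ hXc hXR using hex
  let key : V8 → ZMod 2 × ZMod 2 := fun v => (B8 p2 (F.av (k * X v * k⁻¹)), B8 p4 (F.av (k * X v * k⁻¹)))
  have hdet : ∀ u v, B8 u v0 = 0 → B8 v v0 = 0 → key u = key v → nmap δ u = nmap δ v := by
    intro u v hu hv hkey
    have huv : B8 (u + v) v0 = 0 := by
      rw [B8, polar_add_left, show polar (⇑Q8) u v0 = 0 from hu, show polar (⇑Q8) v v0 = 0 from hv, add_zero]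
    have h1 := (hval _ huv).2.2.2 (X u * X v) (mul_mem (hXQ u hu) (hXQ v hv))
      (by rw [D.coords.mul _ (hXQ u hu) _ (hXQ v hv), hXc u hu, hXc v hv]) (by
        have hSu := sig_of_mem (hXR u hu)
        have hSv := sig_of_mem (hXR v hv)
        rw [show k * (X u * X v) * k⁻¹ = (k * X u * k⁻¹) * (k * X v * k⁻¹) by group]
        have hav : Eqv (F.av ((k * X u * k⁻¹) * (k * X v * k⁻¹)))
            (F.av (k * X u * k⁻¹) + F.av (k * X v * k⁻¹)) := by
          rw [av, nmap_apply, D.ρ_mul hSu.cz hSv.cz, act_mul, act_eq_add (D.ρ (k * X v * k⁻¹)) yy,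
            show nmap (D.ρ (k * X v * k⁻¹)) yy = F.av (k * X v * k⁻¹) from rfl, act_add,
            act_eq_add (D.ρ (k * X u * k⁻¹)) yy,
            show nmap (D.ρ (k * X u * k⁻¹)) yy = F.av (k * X u * k⁻¹) from rfl,
            act_eq_add _ (F.av (k * X v * k⁻¹))]
          rcases hSu.small _ hSv.av_perp with e' | e' <;> rw [e']
          · left; abel_nf; simp [two_smul, add_self_vec]
          · right; abel_nf; simp [two_smul, add_self_vec]
        obtain ⟨k2, k4⟩ := Prod.ext_iff.1 hkey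
        simp only [key] at k2 k4
        refine InFix.of_eqv hav ⟨?_, ?_, ?_⟩
        · rw [B8, polar_add_left, show polar (⇑Q8) _ v0 = 0 from hSu.av_perp,
            show polar (⇑Q8) _ v0 = 0 from hSv.av_perp, add_zero]
        · rw [B8, polar_add_right]
          rw [show polar (⇑Q8) p2 (F.av (k * X u * k⁻¹)) = _ from k2]
          exact zadd2 _
        · rw [B8, polar_add_right]
          rw [show polar (⇑Q8) p4 (F.av (k * X u * k⁻¹)) = _ from k4]
          exact zadd2 _)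
    rw [map_add] at h1
    have := congrArg (· + nmap δ v) h1
    simpa [add_assoc, add_self_vec] using this
  let S : Finset V8 := (Finset.univ.filter fun v => B8 v v0 = 0).image (nmap δ)
  have hS4 : S.card ≤ 4 := by
    let g : ZMod 2 × ZMod 2 → V8 := fun p =>
      if h : ∃ v, B8 v v0 = 0 ∧ key v = p then nmap δ h.choose else 0
    refine le_trans (Finset.card_le_card (t := Finset.univ.image g) fun n hn => ?_)
      (Finset.card_image_le.trans (by decide))
    obtain ⟨v, hv, rfl⟩ := Finset.mem_image.1 hn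
    have hv0 := (Finset.mem_filter.1 hv).2
    refine Finset.mem_image.2 ⟨key v, Finset.mem_univ _, ?_⟩
    have h : ∃ u, B8 u v0 = 0 ∧ key u = key v := ⟨v, hv0, rfl⟩
    simp only [g, dif_pos h]
    exact hdet _ _ h.choose_spec.1 hv0 h.choose_spec.2
  have hmemS : ∀ v, B8 v v0 = 0 → nmap δ v ∈ S := fun v hv =>
    Finset.mem_image.2 ⟨v, Finset.mem_filter.2 ⟨Finset.mem_univ _, hv⟩, rfl⟩
  have hcover : ∀ u, ∃ v, B8 v v0 = 0 ∧ (nmap δ u = nmap δ v ∨ nmap δ u = nmap δ v + nmap δ yy) := fun u => by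
    rcases bit (B8 u v0) with e | e
    · exact ⟨u, e, Or.inl rfl⟩
    · refine ⟨u + yy, ?_, Or.inr ?_⟩
      · rw [B8, polar_add_left, show polar (⇑Q8) u v0 = 1 from e,
          show polar (⇑Q8) yy v0 = 1 from B_yy]
        rfl
      · rw [map_add, add_assoc, add_self_vec, add_zero]
  have hle8 : Nat.card (LinearMap.range (nmap δ)) ≤ 8 := by
    rw [Nat.card_eq_fintype_card, Fintype.card_subtype]
    refine le_trans (Finset.card_le_card (t := S ∪ S.image (· + nmap δ yy)) fun n hn => ?_)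
      ((Finset.card_union_le _ _).trans ((Nat.add_le_add hS4 (Finset.card_image_le.trans hS4)).trans le_rfl))
    obtain ⟨u, rfl⟩ := (Finset.mem_filter.1 hn).2
    obtain ⟨v, hv, e | e⟩ := hcover u <;> rw [e]
    · exact Finset.mem_union_left _ (hmemS v hv)
    · exact Finset.mem_union_right _ (Finset.mem_image.2 ⟨_, hmemS v hv, rfl⟩)
  -- two vectors of the hyperplane with independent images
  have hnot : t' ∉ Q := fun hQ => by
    have h0 : ∀ v, nmap δ v = 0 := fun v => by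
      rw [hδ, (D.ρ_ker hz').2 hQ, nmap_apply, act_one, add_self_vec]
    obtain ⟨r, hr, he⟩ := F.exists_r B_32
    set x := k⁻¹ * r * k with hx'
    have hxQ : x ∈ Q := by
      have hrR := (mem_fixIn.1 hr).1
      rw [hR] at hrR
      obtain ⟨q, hq, e⟩ := hrR
      have : x = q := by rw [hx', ← e]; simp [mul_assoc]
      rw [this]; exact hq
    have hxs : Commute x F.s := by
      have := (Commute.conj_iff k⁻¹).2 (mem_fixIn.1 hr).2
      rwa [inv_inv, ek2] at this
    have hfx := (hval _ ((F.commute_s_iff hxQ).1 hxs)).2.2.1 (h0 _) _ (Or.inl rfl) x hxQ rfl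
    rw [hx', show k * (k⁻¹ * r * k) * k⁻¹ = r by group] at hfx
    have h1 := hfx.2.1
    rw [B8, polar_comm] at h1
    have h2 := (he.polar_eq B_p2).symm.trans h1
    rw [B8, polar_comm, show polar (⇑Q8) p2 (vc 32) = 1 from B_2_32] at h2
    exact one_ne_zero h2
  have hne : δ ≠ 1 := fun e => hnot ((D.ρ_ker hz').1 e)
  rcases rk_cases (D.ρ_mem hz') hsq' hne with ⟨hr2, hc4⟩ | ⟨-, hc16⟩
  swap
  · have := hc16.symm.trans_le hle8
    omega
  refine ⟨t', hcon, h2', hz', hnot, hr2, fun u => ?_⟩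
  -- two different images already fill the range
  obtain ⟨r32, hr32, he32⟩ := F.exists_r B_32
  obtain ⟨r64, hr64, he64⟩ := F.exists_r B_64
  have hlift : ∀ r ∈ fixIn F.R z, ∃ x ∈ Q, B8 (D.c x) v0 = 0 ∧ k * x * k⁻¹ = r := by
    intro r hr
    have hrR := (mem_fixIn.1 hr).1
    rw [hR] at hrR
    obtain ⟨q, hq, e⟩ := hrR
    have e' : k * q * k⁻¹ = r := e
    refine ⟨q, hq, (F.commute_s_iff hq).1 ?_, e'⟩
    have := (Commute.conj_iff k⁻¹).2 (mem_fixIn.1 hr).2
    rw [inv_inv, ek2, ← e', show k⁻¹ * (k * q * k⁻¹) * k = q by group] at this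
    exact this
  obtain ⟨x3, hx3, hp3, e3⟩ := hlift r32 hr32
  obtain ⟨x6, hx6, hp6, e6⟩ := hlift r64 hr64
  have hne3 : ¬ Eqv (nmap δ (D.c x3)) 0 := fun h => by
    have hfx := (hval _ hp3).2.2.1 ((hval _ hp3).2.1 h) _ (Or.inl rfl) x3 hx3 rfl
    rw [e3] at hfx
    have h2 := (he32.polar_eq B_p2).symm.trans ((polar_comm _ _ _).trans hfx.2.1)
    rw [B8, polar_comm, show polar (⇑Q8) p2 (vc 32) = 1 from B_2_32] at h2
    exact one_ne_zero h2
  have hne6 : ¬ Eqv (nmap δ (D.c x6)) 0 := fun h => by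
    have hfx := (hval _ hp6).2.2.1 ((hval _ hp6).2.1 h) _ (Or.inl rfl) x6 hx6 rfl
    rw [e6] at hfx
    have h2 := (he64.polar_eq B_p4).symm.trans ((polar_comm _ _ _).trans hfx.2.2)
    rw [B8, polar_comm, show polar (⇑Q8) p4 (vc 64) = 1 from B_4_64] at h2
    exact one_ne_zero h2
  have hne36 : nmap δ (D.c x3) ≠ nmap δ (D.c x6) := fun h => by
    have hp : B8 (D.c (x3 * x6)) v0 = 0 := by
      rw [D.coords.mul _ hx3 _ hx6, B8, polar_add_left, show polar (⇑Q8) _ v0 = 0 from hp3,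
        show polar (⇑Q8) _ v0 = 0 from hp6, add_zero]
    have h0 : nmap δ (D.c (x3 * x6)) = 0 := by
      rw [D.coords.mul _ hx3 _ hx6, map_add, h, add_self_vec]
    have hfx := (hval _ hp).2.2.1 h0 _ (Or.inl rfl) _ (mul_mem hx3 hx6) rfl
    rw [show k * (x3 * x6) * k⁻¹ = (k * x3 * k⁻¹) * (k * x6 * k⁻¹) by group, e3, e6] at hfx
    have hS3 := sig_of_mem hr32
    have hS6 := sig_of_mem hr64
    have hav : Eqv (F.av (r32 * r64)) (vc 32 + vc 64) := by
      refine Eqv.trans ?_ (he32.add he64)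
      rw [av, nmap_apply, D.ρ_mul hS3.cz hS6.cz, act_mul, act_eq_add (D.ρ r64) yy,
        show nmap (D.ρ r64) yy = F.av r64 from rfl, act_add, act_eq_add (D.ρ r32) yy,
        show nmap (D.ρ r32) yy = F.av r32 from rfl, act_eq_add (D.ρ r32) (F.av r64)]
      rcases hS3.small _ hS6.av_perp with e | e <;> rw [e]
      · left; abel_nf; simp [two_smul, add_self_vec]
      · right; abel_nf; simp [two_smul, add_self_vec]
    have h2 := (hav.polar_eq B_p2).symm.trans ((polar_comm _ _ _).trans hfx.2.1)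
    rw [B8, polar_comm, polar_add_right, show polar (⇑Q8) p2 (vc 32) = 1 from B_2_32,
      show polar (⇑Q8) p2 (vc 64) = 0 from B_2_64, add_zero] at h2
    exact one_ne_zero h2
  set n3 := nmap δ (D.c x3) with hn3
  set n6 := nmap δ (D.c x6) with hn6
  have hset : ({0, n3, n6, n3 + n6} : Set V8) = LinearMap.range (nmap δ) := by
    refine Set.eq_of_subset_of_ncard_le ?_ ?_
    · rintro x (rfl | rfl | rfl | rfl)
      · exact zero_mem _
      · exact ⟨_, rfl⟩
      · exact ⟨_, rfl⟩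
      · exact add_mem ⟨_, rfl⟩ ⟨_, rfl⟩
    · rw [← Nat.card_coe_set_eq, show Nat.card ↥((LinearMap.range (nmap δ) : Set V8)) = 4 from hc4]
      have h3 : n3 ≠ 0 := fun e => hne3 (Or.inl e)
      have h6 : n6 ≠ 0 := fun e => hne6 (Or.inl e)
      have h36 : n3 + n6 ≠ 0 := fun e => hne36 (by
        have := congrArg (· + n6) e
        simpa [add_assoc, add_self_vec] using this)
      rw [Set.ncard_insert_of_notMem (by simp [Ne.symm h3, Ne.symm h6, Ne.symm h36]),
        Set.ncard_insert_of_notMem (by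
          simp only [Set.mem_insert_iff, Set.mem_singleton_iff, not_or]
          exact ⟨hne36, fun e => h6 (left_eq_add.1 e)⟩),
        Set.ncard_pair (fun e => h3 (right_eq_add.1 e))]
  have hu : nmap δ u ∈ ({0, n3, n6, n3 + n6} : Set V8) := hset ▸ ⟨u, rfl⟩
  rcases hu with e | e | e | e <;> rw [e]
  · exact QuadraticMap.map_zero _
  · exact (hval _ hp3).1
  · exact (hval _ hp6).1
  · rw [QuadraticMap.map_add ⇑Q8, (hval _ hp3).1, (hval _ hp6).1,
      range_polar hsq' ⟨_, rfl⟩ ⟨_, rfl⟩, add_zero, add_zero]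

/-- An involution of rank four is conjugate to `z` or to the standard element of singular type. -/
theorem classify_four (Ts : Std F sType) (Tc : Std F cType) {t : G} (hz : Commute t z) (h2 : t * t = 1)
    (hQ : t ∉ Q) (hr : rk (D.ρ t) = 4) : IsConj z t ∨ IsConj (Ts.r * Ts.x) t := by
  obtain ⟨t1, hc1, h1⟩ := exists_four (F := F) hz h2 hQ hr
  suffices h : ∃ t2, IsConj t1 t2 ∧ t2 * t2 = 1 ∧ Commute t2 z ∧ t2 ∉ Q ∧ rk (D.ρ t2) = 2 ∧
      ∀ v, Q8 (nmap (D.ρ t2) v) = 0 by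
    obtain ⟨t2, hc2, h22, hz2, hQ2, hr2, ha2⟩ := h
    exact ((classify_two Ts Tc hz2 h22 hQ2 hr2).1 ha2).imp (·.trans (hc1.trans hc2).symm)
      (·.trans (hc1.trans hc2).symm)
  rcases exists_kill h1 with hk | hk
  · exact rank_two_at_s h1 hk
  · have hyz : Commute F.y z := (D.setup.z_commute F.hy).symm
    have hz' : Commute (F.y * t1 * F.y⁻¹) z := (hyz.mul_left h1.cz).mul_left hyz.inv_left
    have hρ : D.ρ (F.y * t1 * F.y⁻¹) = D.ρ t1 := by
      rw [D.ρ_mul (hyz.mul_left h1.cz) hyz.inv_left, D.ρ_mul hyz h1.cz, D.rho_inv hyz,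
        (D.ρ_ker hyz).2 F.hy, one_mul, inv_one, mul_one]
    have hs' : Commute (F.y * t1 * F.y⁻¹) F.s := by
      have := (Commute.conj_iff F.y).2 (h1.cz.mul_right h1.cs)
      rwa [F.y_zs] at this
    have h2' : F.y * t1 * F.y⁻¹ * (F.y * t1 * F.y⁻¹) = 1 := by
      rw [show F.y * t1 * F.y⁻¹ * (F.y * t1 * F.y⁻¹) = F.y * (t1 * t1) * F.y⁻¹ by group, h1.sq]; group
    obtain ⟨t2, hc2, rest⟩ := rank_two_at_s ⟨hz', hs', h2', hρ ▸ h1.moved, hρ ▸ h1.cong⟩ hk
    exact ⟨t2, (isConj_of_conj : IsConj t1 (F.y * t1 * F.y⁻¹)).trans hc2, rest⟩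

end Frame

end Cfsg.Agent.LargeExt10.Co
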