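import Cfsg.Agent.LargeExt10.Co.NotConj

/-!
# A Sylow 2-subgroup of the centraliser of the standard element of anisotropic type
-/

set_option autoImplicit false

namespace Cfsg.Agent.LargeExt10.Co

open QuadraticMap Cfsg.Agent.Reflections Cfsg.Agent.LargeExtraspecial
open Cfsg.Agent.Forms59.Inv (nmap add_self_vec nmap_apply polar_nmap act_eq_add rk form_nmap nmap_conj)

variable {G : Type*} [Group G] [Finite G] {z : G} {Q : Subgroup G} {D : Co z Q}

/-- `C(z) ∩ C(t)`. -/
def cen2 (z t : G) : Subgroup G :=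
  Subgroup.centralizer ({z} : Set G) ⊓ Subgroup.centralizer ({t} : Set G)

theorem mem_cen2 {z t g : G} : g ∈ cen2 z t ↔ Commute g z ∧ Commute g t := by
  simp only [cen2, Subgroup.mem_inf, Subgroup.mem_centralizer_singleton_iff, Commute, SemiconjBy]

namespace Frame

variable {F : Frame D} (T : Std F cType)

/-- An element moving `s` to `z * s` and centralising the standard element. -/
theorem exists_swap_s : ∃ h ∈ cen2 z (T.r * T.x), h * F.s * h⁻¹ = z * F.s := by
  have hyz : Commute F.y z := (D.setup.z_commute F.hy).symm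
  obtain ⟨hq, hqs, hqc⟩ := qel_spec T.hr
  have hp0 : B8 cType.va v0 = 0 := cType.va_perp
  have hp1 : B8 cType.vb v0 = 0 := cType.vb_perp
  obtain ⟨x', hx', hxs', hc', he'⟩ : ∃ x', x' ∈ Q ∧ Commute x' F.s ∧
      Eqv (D.c x') (cType.va + cType.vb) ∧ F.y * (T.r * T.x) * F.y⁻¹ = T.r * x' := by
    refine ⟨F.qel T.r * (F.y * T.x * F.y⁻¹), mul_mem hq (D.setup.conj_mem hyz T.hx), ?_, ?_, ?_⟩
    · refine hqs.mul_left ?_
      rcases D.setup.conj_cases F.hy T.hx with e | e <;> rw [e]
      exacts [T.hxs, F.czs.mul_left T.hxs]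
    · rw [D.coords.mul _ hq _ (D.setup.conj_mem hyz T.hx), hqc, ← D.ρ_act hyz T.hx,
        (D.ρ_ker hyz).2 F.hy, act_one]
      exact T.ha.add T.hb
    · rw [qel]; group
  have hqa : Q8 cType.va = 1 := Q_ac
  have hab : B8 cType.va cType.vb = 1 := by rw [cType.B_ab, hqa]
  have hsum : B8 (cType.va + cType.vb) v0 = 0 := by
    rw [B8, polar_add_left, show polar (⇑Q8) cType.va v0 = 0 from hp0,
      show polar (⇑Q8) cType.vb v0 = 0 from hp1, add_zero]
  obtain ⟨γ, hγ, hfix, hga, hgb⟩ := exists_to_pairC (a := cType.va) (b := cType.va + cType.vb) hqa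
    (by rw [QuadraticMap.map_add ⇑Q8, show polar (⇑Q8) cType.va cType.vb = 1 from hab, cType.Q_ab, hqa]
        decide) hp0 hsum
    (by rw [B8, polar_add_right, polar_self_two, show polar (⇑Q8) cType.va cType.vb = 1 from hab, zero_add])
  obtain ⟨g, hgz, hgs, rfl⟩ := F.exists_lift hγ hfix
  obtain ⟨hr', hav⟩ := F.av_conj hgz hgs T.hr
  let T' : Std F cType := ⟨g * T.r * g⁻¹, g * x' * g⁻¹, hr', D.setup.conj_mem hgz hx',
    (hgs.mul_left hxs').mul_left hgs.inv_left, hav.trans ((T.ha.map hfix).trans hga),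
    by rw [← D.ρ_act hgz hx']; exact (hc'.map hfix).trans hgb⟩
  obtain ⟨k, hk, hkT⟩ := T'.exists_conj T
  obtain ⟨hkQ, hks⟩ := mem_fixIn.1 hk
  have hkz : Commute k z := (D.setup.z_commute hkQ).symm
  refine ⟨k * g * F.y, mem_cen2.2 ⟨(hkz.mul_left hgz).mul_left hyz, ?_⟩, ?_⟩
  · show k * g * F.y * (T.r * T.x) = T.r * T.x * (k * g * F.y)
    rw [← mul_inv_eq_iff_eq_mul]
    calc k * g * F.y * (T.r * T.x) * (k * g * F.y)⁻¹
        = k * (g * (F.y * (T.r * T.x) * F.y⁻¹) * g⁻¹) * k⁻¹ := by group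
      _ = k * (T'.r * T'.x) * k⁻¹ := by rw [he']; simp only [T']; group
      _ = T.r * T.x := hkT
  · calc k * g * F.y * F.s * (k * g * F.y)⁻¹
        = k * g * (F.y * F.s * F.y⁻¹) * (k * g)⁻¹ := by group
      _ = z * F.s := by
        rw [F.conj_y_s, ((hkz.mul_left hgz).mul_right (hks.mul_left hgs)).eq]; group

/-- The elements centralising `z` and the standard element permute `s` and `z * s`. -/
theorem conj_s_cases {g : G} (hg : g ∈ cen2 z (T.r * T.x)) :
    g * F.s * g⁻¹ = F.s ∨ g * F.s * g⁻¹ = z * F.s := by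
  obtain ⟨hgz, hgt⟩ := mem_cen2.1 hg
  have hQs : g * F.s * g⁻¹ ∈ Q := D.setup.conj_mem hgz F.pair.mem
  have hc : D.c (g * F.s * g⁻¹) = act (D.ρ g) v0 := by rw [← D.ρ_act hgz F.pair.mem, F.hs]
  have hspan : cType.InSpan (act (D.ρ g) v0) := by
    refine cType.inSpan_of_perp fun v h0 h1 h2 => ?_
    obtain ⟨x, hx, rfl, hxt⟩ := T.exists_commute h0 h1 h2
    have hxt' : Commute (g⁻¹ * x * g) (T.r * T.x) :=
      (hgt.inv_left.mul_left hxt).mul_left hgt
    have hmem : g⁻¹ * x * g ∈ Q := by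
      have := D.setup.conj_mem hgz.inv_left hx
      rwa [inv_inv] at this
    have h := (T.perp_of_commute hmem hxt').1
    have e : act (D.ρ g) (D.c (g⁻¹ * x * g)) = D.c x := by
      rw [D.ρ_act hgz hmem]; congr 1; group
    rw [← e, B8, act_polar, polar_comm]
    exact h
  obtain ⟨i, hi⟩ : ∃ i, g * F.s * g⁻¹ = el z F.s i 1 := by
    refine F.eq_el hQs ?_
    rw [hc, one_smul]
    rcases singular_span_c hspan (by rw [act_Q]; exact Q_v0) with e | e
    · exfalso
      have := congrArg (act (D.ρ g)⁻¹) e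
      rw [act_inv_act, act_zero] at this
      exact v0_ne this
    · exact e
  rcases bit i with rfl | rfl
  · exact Or.inl (by rw [hi, el, pw_zero, pw_one, one_mul])
  · exact Or.inr (by rw [hi, el, pw_one, pw_one])

/-- `C(z, s, t)` has index two in `C(z, t)`. -/
theorem card_cen2 : Nat.card (cen2 z (T.r * T.x)) =
    2 * Nat.card (cen2 z F.s ⊓ Subgroup.centralizer ({T.r * T.x} : Set G) : Subgroup G) := by
  set H := (cen2 z F.s ⊓ Subgroup.centralizer ({T.r * T.x} : Set G) : Subgroup G) with hH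
  set C := cen2 z (T.r * T.x)
  have hmem : ∀ g, g ∈ H ↔ g ∈ C ∧ g * F.s * g⁻¹ = F.s := fun g => by
    simp only [hH, C, Subgroup.mem_inf, mem_cen2, Subgroup.mem_centralizer_singleton_iff,
      mul_inv_eq_iff_eq_mul, Commute, SemiconjBy]
    tauto
  have hle : H ≤ C := fun g hg => ((hmem g).1 hg).1
  obtain ⟨h, hh, hhs⟩ := exists_swap_s T
  have hzs : z * F.s ≠ F.s := fun e => D.setup.z_ne_one (mul_eq_right.1 e)
  have hi : (H.subgroupOf C).index = 2 := by
    rw [Subgroup.index_eq_two_iff]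
    refine ⟨⟨h, hh⟩, fun b => ?_⟩
    simp only [Subgroup.mem_subgroupOf, Subgroup.coe_mul, hmem, SetLike.coe_mem, mul_mem b.2 hh, true_and]
    have hbz : Commute (b : G) z := (mem_cen2.1 b.2).1
    have e : (b : G) * h * F.s * ((b : G) * h)⁻¹ = z * ((b : G) * F.s * (b : G)⁻¹) := by
      rw [show (b : G) * h * F.s * ((b : G) * h)⁻¹ = b * (h * F.s * h⁻¹) * (b : G)⁻¹ by group, hhs,
        ← mul_assoc (b : G), hbz.eq]
      group
    rw [e]
    rcases conj_s_cases T b.2 with e' | e' <;> rw [e']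
    · exact Or.inr ⟨rfl, hzs⟩
    · exact Or.inl ⟨by rw [← mul_assoc, F.zz, one_mul], hzs⟩
  have h1 := (H.subgroupOf C).card_mul_index
  rw [hi, Nat.card_congr (Subgroup.subgroupOfEquivOfLe hle).toEquiv, mul_comm] at h1
  exact h1.symm

/-- The 2-part of the centraliser of the standard element lies in `C(z)`. -/
theorem two_part (n : ℕ) (hn : 2 ^ n ∣ Nat.card (Subgroup.centralizer ({T.r * T.x} : Set G))) :
    2 ^ n ∣ Nat.card (cen2 z (T.r * T.x)) := by
  classical
  haveI : Fact (Nat.Prime 2) := ⟨Nat.prime_two⟩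
  set t := T.r * T.x with ht
  set C := cen2 z t with hC
  set K := Subgroup.centralizer ({t} : Set G) with hK
  have hCK : C ≤ K := inf_le_right
  obtain ⟨T0⟩ : Nonempty (Sylow 2 (C.subgroupOf K)) := inferInstance
  set S := (T0 : Subgroup (C.subgroupOf K)).map (C.subgroupOf K).subtype with hS
  have hSp : IsPGroup 2 S := T0.isPGroup'.map _
  have hSC : ∀ {a : K}, a ∈ S → (a : G) ∈ C := fun {a} ha => by
    obtain ⟨b, -, rfl⟩ := ha
    exact b.2
  -- normal `2`-subgroups lie in `S`
  have hnorm : ∀ x ∈ Q, (hx : Commute x t) → ∀ hxK : x ∈ K, (⟨x, hxK⟩ : K) ∈ S := by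
    intro x hx hxt hxK
    set W := (Q.subgroupOf K).subgroupOf (C.subgroupOf K) with hW
    haveI : W.Normal := ⟨fun w hw g => by
      rw [hW, Subgroup.mem_subgroupOf, Subgroup.mem_subgroupOf] at hw ⊢
      push_cast
      exact D.setup.conj_mem (mem_cen2.1 g.2).1 hw⟩
    have hWp : IsPGroup 2 W := by
      refine IsPGroup.comap_of_injective ?_ _ (Subgroup.subtype_injective _)
      exact D.setup.extraspecial.1.1.comap_of_injective _ (Subgroup.subtype_injective _)
    have hxC : x ∈ C := mem_cen2.2 ⟨(D.setup.z_commute hx).symm, hxt⟩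
    exact ⟨⟨⟨x, hxK⟩, hxC⟩, hWp.le_sylow_of_normal T0 (show (⟨⟨x, hxK⟩, hxC⟩ : C.subgroupOf K) ∈ W from hx),
      rfl⟩
  -- an element moving `s`
  obtain ⟨τ, hτS, hτ⟩ : ∃ τ ∈ S, (τ : G) * F.s * (τ : G)⁻¹ ≠ F.s := by
    by_contra hcon
    push Not at hcon
    have hle : S.map K.subtype ≤ cen2 z F.s ⊓ Subgroup.centralizer ({t} : Set G) := by
      rintro _ ⟨a, ha, rfl⟩
      exact ⟨mem_cen2.2 ⟨(mem_cen2.1 (hSC ha)).1, mul_inv_eq_iff_eq_mul.1 (hcon a ha)⟩, a.2⟩
    have h1 := Subgroup.card_dvd_of_le hle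
    rw [Subgroup.card_map_of_injective K.subtype_injective, hS,
      Subgroup.card_map_of_injective (Subgroup.subtype_injective _), T0.card_eq_multiplicity,
      Nat.card_congr (Subgroup.subgroupOfEquivOfLe hCK).toEquiv, card_cen2 T] at h1
    set m := Nat.card (cen2 z F.s ⊓ Subgroup.centralizer ({t} : Set G) : Subgroup G) with hm
    have hm0 : m ≠ 0 := Nat.card_pos.ne'
    rw [Nat.factorization_mul two_ne_zero hm0, Finsupp.add_apply, Nat.Prime.factorization_self Nat.prime_two,
      add_comm] at h1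
    exact Nat.pow_succ_factorization_not_dvd hm0 Nat.prime_two h1
  obtain ⟨P, hP⟩ := hSp.exists_le_sylow
  have hPS : (P : Subgroup K) ≤ S := by
    by_contra hne
    have hlt : S.subgroupOf (P : Subgroup K) < ⊤ := lt_top_iff_ne_top.2 fun e =>
      hne fun y hy => by
        have : (⟨y, hy⟩ : (P : Subgroup K)) ∈ S.subgroupOf (P : Subgroup K) := by rw [e]; trivial
        exact this
    haveI : Group.IsNilpotent (P : Subgroup K) := P.isPGroup'.isNilpotent
    have hnc := Group.normalizerCondition_of_isNilpotent (G := (P : Subgroup K)) _ hlt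
    obtain ⟨⟨w, hwP⟩, hwN, hwS⟩ := SetLike.exists_of_lt hnc
    have hwn' : ∀ a ∈ S, w⁻¹ * a * w ∈ S := fun a ha => by
      have := (Subgroup.mem_normalizer_iff.1 (inv_mem hwN) ⟨a, hP ha⟩).1 ha
      rw [inv_inv, Subgroup.mem_subgroupOf] at this
      simpa using this
    set e := (w : G) * z * (w : G)⁻¹ with he
    have hwt : Commute (w : G) t := Subgroup.mem_centralizer_singleton_iff.1 w.2
    have hze : IsConj z e := isConj_of_conj
    have hte : Commute e t := (hwt.mul_left T.cz.symm).mul_left hwt.inv_left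
    have hcen : ∀ a ∈ S, Commute e (a : G) := fun a ha => by
      have h1 : Commute ((w : G)⁻¹ * a * w) z := by
        have := (mem_cen2.1 (hSC (hwn' a ha))).1
        simpa using this
      have h2 := (Commute.conj_iff (w : G)).2 h1.symm
      rwa [show (w : G) * ((w : G)⁻¹ * a * w) * (w : G)⁻¹ = a by group] at h2
    have hzK : z ∈ K := Subgroup.mem_centralizer_singleton_iff.2 T.cz.symm.eq
    have hez : Commute e z := hcen ⟨z, hzK⟩ (hnorm z D.setup.z_mem T.cz.symm hzK)
    have hee : e * e = 1 := by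
      rw [he, show (w : G) * z * (w : G)⁻¹ * ((w : G) * z * (w : G)⁻¹) = w * (z * z) * (w : G)⁻¹ by group,
        F.zz]
      group
    have hperp : ∀ v, B8 v v0 = 0 → B8 v cType.va = 0 → B8 v cType.vb = 0 →
        ∃ x ∈ Q, D.c x = v ∧ Commute e x := fun v h0 h1 h2 => by
      obtain ⟨x, hx, hcx, hxt⟩ := T.exists_commute h0 h1 h2
      exact ⟨x, hx, hcx, hcen ⟨x, Subgroup.mem_centralizer_singleton_iff.2 hxt.eq⟩
        (hnorm x hx hxt _)⟩
    by_cases heQ : e ∈ Q
    · have hspan : cType.InSpan (D.c e) := cType.inSpan_of_perp fun v h0 h1 h2 => by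
        obtain ⟨x, hx, rfl, hxe⟩ := hperp v h0 h1 h2
        exact (D.commute_iff heQ hx).1 hxe
      obtain ⟨i, j, hij⟩ := F.eq_el_of_small heQ (by
        rcases singular_span_c hspan ((D.sq_eq_one heQ).1 hee) with e' | e'
        exacts [Or.inl e', Or.inr (e'.trans (zero_add _).symm)])
      have he1 : e ≠ 1 := fun e' => D.setup.z_ne_one (isConj_one_left.1 (e' ▸ hze))
      rcases bit j with rfl | rfl
      · rcases bit i with rfl | rfl
        · exact he1 (hij.trans F.el_zero)
        · rw [el, pw_one, pw_zero, mul_one] at hij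
          refine hwS ?_
          rw [Subgroup.mem_subgroupOf]
          show w ∈ S
          have hwC : (w : G) ∈ C := mem_cen2.2 ⟨mul_inv_eq_iff_eq_mul.1 hij, hwt⟩
          have hmax : ((P : Subgroup K) ⊓ C.subgroupOf K).subgroupOf (C.subgroupOf K) = T0 := by
            refine T0.is_maximal' ((P.isPGroup'.to_le inf_le_left).of_equiv
              (Subgroup.subgroupOfEquivOfLe inf_le_right).symm) fun y hy => ?_
            exact ⟨hP ⟨y, hy, rfl⟩, y.2⟩
          exact ⟨⟨w, hwC⟩, hmax ▸ (⟨hwP, hwC⟩ : (⟨w, hwC⟩ : C.subgroupOf K) ∈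
            ((P : Subgroup K) ⊓ C.subgroupOf K).subgroupOf (C.subgroupOf K)), rfl⟩
      · have hcomm : Commute (τ : G) (el z F.s i 1) := hij ▸ (hcen τ hτS).symm
        have hτz : Commute (τ : G) (pw z i) := by
          rcases pw_cases z i with ⟨-, e'⟩ | ⟨-, e'⟩ <;> rw [e']
          exacts [Commute.one_right _, (mem_cen2.1 (hSC hτS)).1]
        have := hτz.inv_right.mul_right hcomm
        rw [el, pw_one, inv_mul_cancel_left] at this
        exact hτ (by rw [this.eq, mul_inv_cancel_right])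
    · have hfix : D.ρ e ∈ cType.fixS := fun v h0 h1 h2 => by
        obtain ⟨x, hx, rfl, hxe⟩ := hperp v h0 h1 h2
        rw [D.ρ_act hez hx, hxe.eq, mul_inv_cancel_right]
      have hne : D.ρ e ≠ 1 := fun e' => heQ ((D.ρ_ker hez).1 e')
      have hsub : (LinearMap.range (nmap (D.ρ e)) : Set V8) ⊆ ↑((span cType.a cType.b).map vc).toFinset := by
        rintro _ ⟨u, rfl⟩
        obtain ⟨k, hk, ek⟩ := cType.fix_moved hfix u
        exact Finset.mem_coe.2 (List.mem_toFinset.2 (List.mem_map.2 ⟨k, hk, ek⟩))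
      have h8 : Nat.card (LinearMap.range (nmap (D.ρ e))) ≤ 8 := by
        refine (Nat.card_coe_set_eq _).trans_le ((Set.ncard_le_ncard hsub).trans ?_)
        rw [Set.ncard_coe_finset]
        exact (List.toFinset_card_le _).trans (by rw [List.length_map]; exact le_rfl)
      rcases rk_cases (D.ρ_mem hez) (D.rho_sq hez (hee ▸ one_mem Q)) hne with ⟨hr2, hc4⟩ | ⟨-, hc16⟩
      swap
      · omega
      have hnalt : ¬ ∀ v, Q8 (nmap (D.ρ e) v) = 0 := fun h => by
        have hsub2 : (LinearMap.range (nmap (D.ρ e)) : Set V8) ⊆ {0, v0} := by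
          rintro _ ⟨u, rfl⟩
          exact singular_span_c (cType.fix_moved hfix u) (h u)
        have h2 : Nat.card (LinearMap.range (nmap (D.ρ e))) ≤ 2 :=
          (Nat.card_coe_set_eq _).trans_le ((Set.ncard_le_ncard hsub2).trans
            ((Set.ncard_insert_le _ _).trans (by rw [Set.ncard_singleton])))
        omega
      obtain ⟨Ts⟩ := F.exists_std sType
      exact T.not_isConj not_dvd_fixS_c
        (hze.trans (((classify_two Ts T hez hee heQ hr2).2 hnalt)).symm)
  -- conclude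
  have h2 : 2 ^ n ∣ Nat.card (P : Subgroup K) := by
    rw [P.card_eq_multiplicity]
    exact pow_dvd_pow 2 ((Nat.prime_two.pow_dvd_iff_le_factorization Nat.card_pos.ne').1 hn)
  refine (h2.trans (Subgroup.card_dvd_of_le hPS)).trans ?_
  rw [hS, Subgroup.card_map_of_injective (Subgroup.subtype_injective _)]
  exact (T0 : Subgroup (C.subgroupOf K)).card_subgroup_dvd_card.trans
    (Nat.card_congr (Subgroup.subgroupOfEquivOfLe hCK).toEquiv).dvd

end Frame

end Cfsg.Agent.LargeExt10.Co
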